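import Cfsg.Agent.ThreeTransposition.M22Count.Pair.Fitting
import Cfsg.Agent.ThreeTransposition.M23Count.Involutions

/-!
An automorphism exchanging two commuting members of a class of type M(22), trivial on their centraliser modulo the
2-subgroup: the large extraspecial subgroup of the automorphism group.
-/

set_option autoImplicit false
set_option linter.unusedSectionVars false
set_option linter.style.haveILetI false

namespace Cfsg.Lib.ThreeTr

open Cfsg Subgroup Cfsg.Lib.Classical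

universe u

variable {G : Type u} [Group G] {D : Set G}

/-- An involutory automorphism exchanging `a` and `b` and translating each four through them. -/
structure PairFlip (D : Set G) (a b : G) (α : MulAut G) : Prop where
  sq : α * α = 1
  mem : ∀ x ∈ D, α x ∈ D
  flip : α a = b
  mate : ∀ y ∈ perp D a ∩ perp D b, Mate D a b y (α y)
  trans : ∀ y z, y ∈ perp D a ∩ perp D b → Mate D a b y z → α y = y → α z = z

/-- An automorphism of squares one, and the inner ones. -/
def flipGroup (D : Set G) (a b : G) (α : MulAut G) : Subgroup (MulAut G) :=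
  (pairTwo D a b).map MulAut.conj ⊔ zpowers α

/-- A doubling step for an elementary abelian odd group under two elements with commutator inverting it. -/
theorem fixed_sq_le [Finite G] {U : Subgroup G} {e f : G} (hab : ∀ x ∈ U, ∀ y ∈ U, Commute x y)
    (hodd : Odd (Nat.card U)) (he : ∀ x ∈ U, e * x * e⁻¹ ∈ U) (hf : ∀ x ∈ U, f * x * f⁻¹ ∈ U)
    (he2 : ∀ x ∈ U, e * (e * x * e⁻¹) * e⁻¹ = x)
    (hcomm : ∀ x ∈ U, (e * f * e⁻¹ * f⁻¹) * x * (e * f * e⁻¹ * f⁻¹)⁻¹ = x⁻¹) :
    Nat.card ↥(U ⊓ centralizer {e}) ^ 2 ≤ Nat.card U ∧ (U ⊓ centralizer {e} = ⊥ → U = ⊥) := by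
  have key : ∀ x ∈ U, e * x * e⁻¹ = x → e * (f * x * f⁻¹) * e⁻¹ = (f * x * f⁻¹)⁻¹ := fun x hx ex => by
    have h1 := hcomm _ (hf x hx)
    calc e * (f * x * f⁻¹) * e⁻¹ = e * f * (e⁻¹ * (e * x * e⁻¹) * e) * f⁻¹ * e⁻¹ := by group
      _ = e * f * (e⁻¹ * x * e) * f⁻¹ * e⁻¹ := by rw [ex]
      _ = (e * f * e⁻¹ * f⁻¹) * (f * x * f⁻¹) * (e * f * e⁻¹ * f⁻¹)⁻¹ := by group
      _ = _ := h1
  have hinv : ∀ x ∈ U, x⁻¹ = x → x = 1 := fun x hx e' => by
    by_contra hne
    have h2 : orderOf x = 2 := orderOf_eq_prime (by rw [pow_two]; nth_rw 1 [← e']; exact inv_mul_cancel x) hne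
    have := h2 ▸ Subgroup.orderOf_dvd_natCard U hx
    exact (Nat.not_even_iff_odd.2 hodd) (even_iff_two_dvd.2 this)
  constructor
  · set V := U ⊓ centralizer {e}
    have hV : ∀ x : V, (x : G) ∈ U ∧ e * x * e⁻¹ = x := fun x =>
      ⟨x.2.1, mul_inv_eq_iff_eq_mul.2 (mem_centralizer_singleton_iff.1 x.2.2).symm⟩
    let m : V × V → U := fun p => ⟨p.1 * (f * p.2 * f⁻¹), mul_mem (hV _).1 (hf _ (hV _).1)⟩
    rw [pow_two, ← Nat.card_prod]
    refine Nat.card_le_card_of_injective m ?_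
    rintro ⟨x, y⟩ ⟨x', y'⟩ h
    have h0 : (x : G) * (f * y * f⁻¹) = x' * (f * y' * f⁻¹) := congrArg Subtype.val h
    set d : G := (x' : G)⁻¹ * x
    have hd : d ∈ U := mul_mem (inv_mem (hV x').1) (hV x).1
    have hd1 : e * d * e⁻¹ = d := by
      rw [show e * d * e⁻¹ = (e * x' * e⁻¹)⁻¹ * (e * x * e⁻¹) by simp only [d]; group, (hV x').2, (hV x).2]
    have hdy : d = f * ((y' : G) * (y : G)⁻¹) * f⁻¹ := by
      calc d = (x' : G)⁻¹ * (x * (f * y * f⁻¹)) * (f * y * f⁻¹)⁻¹ := by simp only [d]; group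
        _ = _ := by rw [h0]; group
    have hd2 : e * d * e⁻¹ = d⁻¹ := by
      rw [hdy]
      refine key _ (mul_mem (hV y').1 (inv_mem (hV y).1)) ?_
      rw [show e * ((y' : G) * (y : G)⁻¹) * e⁻¹ = (e * y' * e⁻¹) * (e * y * e⁻¹)⁻¹ by group, (hV y').2, (hV y).2]
    have hdone := hinv d hd (hd2.symm.trans hd1)
    have hx : x = x' := Subtype.ext (inv_mul_eq_one.1 hdone).symm
    subst hx
    have h1 : f * (y : G) * f⁻¹ = f * y' * f⁻¹ := mul_left_cancel h0
    exact Prod.ext rfl (Subtype.ext (mul_left_cancel (mul_right_cancel h1)))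
  · intro hbot
    have hall : ∀ x ∈ U, e * x * e⁻¹ = x⁻¹ := fun x hx => by
      have h1 : x * (e * x * e⁻¹) ∈ U ⊓ centralizer {e} := by
        refine ⟨mul_mem hx (he x hx), mem_centralizer_singleton_iff.2 ?_⟩
        refine (mul_inv_eq_iff_eq_mul.1 ?_).symm
        rw [show e * (x * (e * x * e⁻¹)) * e⁻¹ = e * x * e⁻¹ * (e * (e * x * e⁻¹) * e⁻¹) by group, he2 x hx]
        exact hab _ (he x hx) _ hx
      rw [hbot, mem_bot] at h1
      exact (mul_eq_one_iff_inv_eq.1 h1).symm
    refine eq_bot_iff.2 fun x hx => mem_bot.2 (hinv x hx ?_)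
    have hei : ∀ w ∈ U, e⁻¹ * w * e = w⁻¹ := fun w hw => by
      nth_rw 1 [show w = e * w⁻¹ * e⁻¹ by rw [hall _ (inv_mem hw), inv_inv]]
      group
    have hfi : f⁻¹ * x * f ∈ U := by
      obtain ⟨⟨w, hw⟩, hw'⟩ := (Finite.injective_iff_surjective (f := fun w : U => (⟨f * w * f⁻¹, hf _ w.2⟩ : U))).1
        (fun p q h => Subtype.ext (mul_left_cancel (mul_right_cancel (congrArg Subtype.val h)))) ⟨x, hx⟩
      have e' : f * w * f⁻¹ = x := congrArg Subtype.val hw'
      rw [← e', show f⁻¹ * (f * w * f⁻¹) * f = w by group]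
      exact hw
    symm
    calc x = e * f * (e⁻¹ * (f⁻¹ * x * f) * e) * f⁻¹ * e⁻¹ * 1 := by
          rw [hei _ hfi, show e * f * (f⁻¹ * x * f)⁻¹ * f⁻¹ * e⁻¹ * 1 = e * x⁻¹ * e⁻¹ by group,
            hall _ (inv_mem hx), inv_inv]
      _ = (e * f * e⁻¹ * f⁻¹) * x * (e * f * e⁻¹ * f⁻¹)⁻¹ := by group
      _ = x⁻¹ := hcomm x hx

/-- Three members of a fixed-point-free pairing no two of which are partners. -/
theorem exists_free_three {j : Fin 8 → Fin 8} (h0 : ∀ i, j i ≠ i) (hinv : ∀ i, j (j i) = i) :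
    ∃ r : Fin 3 → Fin 8, ∀ s t, s ≠ t → r s ≠ r t ∧ r s ≠ j (r t) := by
  obtain ⟨q, -, hq⟩ := Finset.exists_mem_notMem_of_card_lt_card (s := ({0, j 0} : Finset (Fin 8)))
    (t := Finset.univ) (lt_of_le_of_lt Finset.card_le_two (by simp))
  simp only [Finset.mem_insert, Finset.mem_singleton, not_or] at hq
  obtain ⟨w, -, hw⟩ := Finset.exists_mem_notMem_of_card_lt_card (s := ({0, j 0, q, j q} : Finset (Fin 8)))
    (t := Finset.univ) (lt_of_le_of_lt Finset.card_le_four (by simp))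
  simp only [Finset.mem_insert, Finset.mem_singleton, not_or] at hw
  refine ⟨![0, q, w], fun s t hst => ?_⟩
  have hflip : ∀ {x y : Fin 8}, x ≠ j y → y ≠ j x := fun {x y} h e => h (by rw [e, hinv])
  fin_cases s <;> fin_cases t <;> first | exact absurd rfl hst | skip
  · exact ⟨Ne.symm hq.1, hflip hq.2⟩
  · exact ⟨Ne.symm hw.1, hflip hw.2.1⟩
  · exact ⟨hq.1, hq.2⟩
  · exact ⟨Ne.symm hw.2.2.1, hflip hw.2.2.2⟩
  · exact ⟨hw.1, hw.2.1⟩
  · exact ⟨hw.2.2.1, hw.2.2.2⟩

variable [Finite G] {a b : G} {α : MulAut G} (h : M22 D) (ha : a ∈ D) (hb : b ∈ perp D a)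
  (hα : PairFlip D a b α) (hA : Nat.card (MulAut G) ≤ 2 * Nat.card G)

namespace PairFlip

include h ha hb hα

theorem invol (x : G) : α (α x) = x := by
  rw [← MulAut.mul_apply, hα.sq, MulAut.one_apply]

theorem flip' : α b = a := by rw [← hα.flip, hα.invol h ha hb]

theorem fix_j : α (a * b) = a * b := by
  rw [map_mul, hα.flip, hα.flip' h ha hb]
  exact hb.2.2.eq.symm

theorem mate_image {y z : G} (hz : Mate D a b y z) : Mate D a b (α y) (α z) := by
  have hp : ∀ p x : G, x ∈ perp D p → α x ∈ perp D (α p) := fun p x hx =>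
    ⟨hα.mem x hx.1, fun e => hx.2.1 (α.injective e), hx.2.2.map α.toMonoidHom⟩
  have h1 := hp a z hz.1.1
  have h2 := hp b z hz.1.2
  rw [hα.flip] at h1
  rw [hα.flip' h ha hb] at h2
  refine ⟨⟨h2, h1⟩, hα.mem z hz.2.1, fun e he c1 c2 c3 => ?_⟩
  have := hz.2.2 (α e) (hα.mem e he) (by
    have := c2.map α.toMonoidHom
    rwa [MulEquiv.coe_toMonoidHom, hα.flip' h ha hb] at this) (by
    have := c1.map α.toMonoidHom
    rwa [MulEquiv.coe_toMonoidHom, hα.flip] at this) (by
    have := c3.map α.toMonoidHom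
    rwa [MulEquiv.coe_toMonoidHom, hα.invol h ha hb] at this)
  have := this.map α.toMonoidHom
  rwa [MulEquiv.coe_toMonoidHom, hα.invol h ha hb] at this

theorem mem_cent {c : G} (hc : c ∈ centralizer ({a * b} : Set G)) : α c ∈ centralizer ({a * b} : Set G) := by
  rw [mem_centralizer_singleton_iff] at hc ⊢
  rw [← hα.fix_j h ha hb, ← map_mul, ← map_mul, hc]

theorem mem_pair {c : G} (hc : c ∈ centralizer ({a, b} : Set G)) : α c ∈ centralizer ({a, b} : Set G) := by
  obtain ⟨c1, c2⟩ := mem_centralizer_pair.1 hc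
  refine mem_centralizer_pair.2 ⟨?_, ?_⟩
  · have := c2.map α.toMonoidHom
    rwa [MulEquiv.coe_toMonoidHom, hα.flip' h ha hb] at this
  · have := c1.map α.toMonoidHom
    rwa [MulEquiv.coe_toMonoidHom, hα.flip] at this

theorem ab_mem_two : a ∈ pairTwo D a b ∧ b ∈ pairTwo D a b ∧ a * b ∈ pairTwo D a b :=
  ⟨subset_closure (Or.inl (Or.inl rfl)), subset_closure (Or.inl (Or.inr rfl)),
    mul_mem (subset_closure (Or.inl (Or.inl rfl))) (subset_closure (Or.inl (Or.inr rfl)))⟩

theorem two_mem {x : G} (hx : x ∈ pairTwo D a b) : α x ∈ pairTwo D a b := by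
  have hle : pairTwo D a b ≤ (pairTwo D a b).comap α.toMonoidHom := by
    refine (closure_le _).2 ?_
    rintro s ((rfl | rfl) | ⟨y, z, hy, hz, rfl⟩)
    · show α s ∈ pairTwo D s b
      rw [hα.flip]
      exact (hα.ab_mem_two h ha hb).2.1
    · show α s ∈ pairTwo D a s
      rw [hα.flip' h ha hb]
      exact (hα.ab_mem_two h ha hb).1
    · show α (y * z) ∈ pairTwo D a b
      rw [map_mul]
      have hzy : Mate D a b (α y) (α z) := hα.mate_image h ha hb hz
      refine subset_closure (Or.inr ⟨_, _, (hα.mate y hy).1, hzy, rfl⟩)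
  exact hle hx

/-- The automorphism moves the subgroup inside the product. -/
theorem two_move {x : G} (hx : x ∈ pairTwo D a b) : α x * x⁻¹ ∈ zpowers (a * b) := by
  obtain ⟨F, _, _, H, π, vec, u, P⟩ := h.exists_pairModel ha hb
  have hE := h.cls.1
  have hj : ∀ w ∈ pairTwo D a b, Commute (a * b) w := fun w hw => by
    have := mem_centralizer_pair.1 (pairTwo_le hb.2.2 hw)
    exact (this.1.mul_right this.2).symm
  have hjj : (a * b) * (a * b) = 1 := by
    rw [hb.2.2.symm.mul_mul_mul_comm, sq_eq_one hE ha, sq_eq_one hE hb.1, one_mul]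
  have hgen : ∀ s ∈ ({a, b} ∪ pairGen D a b : Set G), α s * s⁻¹ ∈ zpowers (a * b) := by
    rintro s ((rfl | rfl) | ⟨y, z, hy, hz, rfl⟩)
    · rw [hα.flip, inv_eq hE ha]
      exact hb.2.2.eq ▸ mem_zpowers _
    · rw [hα.flip' h ha hb, inv_eq hE hb.1]
      exact mem_zpowers _
    · have hzc : Commute y z := hz.2.2 y hy.1.1 hy.1.2.2.symm hy.2.2.2.symm (Commute.refl y)
      have hzP := hz.1
      have hy' := hα.mate y hy
      have hyy' : Commute y (α y) := hy'.2.2 y hy.1.1 hy.1.2.2.symm hy.2.2.2.symm (Commute.refl y)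
      by_cases e1 : α y = y
      · rw [map_mul, e1, hα.trans y z hy hz e1, mul_inv_cancel]
        exact one_mem _
      by_cases e2 : α y = z
      · rw [map_mul, e2, show α z = y by rw [← e2, hα.invol h ha hb], hzc.eq, mul_inv_cancel]
        exact one_mem _
      by_cases e3 : y = z
      · subst e3
        rw [sq_eq_one hE hy.1.1, map_one, inv_one, mul_one]
        exact one_mem _
      have hz1 : α z ≠ z := fun e => e1 (by
        refine hα.trans z y hzP ?_ e
        obtain ⟨x₁, h1⟩ := P.mate_coord hy hz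
        exact P.at_mate h1 (P.at_self hy))
      have hzy : Mate D a b (α y) (α z) := hα.mate_image h ha hb hz
      have hq : Mate D a b y (α z) := by
        obtain ⟨x₁, h1⟩ := P.mate_coord hy hy'
        obtain ⟨x₂, h2⟩ := P.mate_coord hy'.1 hzy
        obtain ⟨-, c, hc, e⟩ := (P.mate_iff hy).1 hy'
        obtain ⟨-, c', hc', e'⟩ := (P.mate_iff hy'.1).1 hzy
        exact (P.mate_iff hy).2 ⟨hzy.1, c' * c, mul_ne_zero hc' hc, by rw [e', e, smul_smul]⟩
      have hn : [y, z, α y, α z].Nodup := by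
        simp only [List.nodup_cons, List.mem_cons, List.not_mem_nil, or_false, not_or, List.nodup_nil, and_true,
          not_false_iff]
        exact ⟨⟨e3, Ne.symm e1, fun e => e2 (by rw [e, hα.invol h ha hb])⟩, ⟨Ne.symm e2, Ne.symm hz1⟩,
          fun e => e3 (α.injective e)⟩
      have h4 := P.four_prod hy hz hy' hq hn
      rw [map_mul]
      have hc4 : Commute (y * z) (α y * α z) := by
        rcases P.gen_comm (show y * z ∈ pairGen D a b from ⟨y, z, hy, hz, rfl⟩)
          (show α y * α z ∈ pairGen D a b from ⟨_, _, hy'.1, hzy, rfl⟩) with e | e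
        · exact mul_inv_eq_iff_eq_mul.1 (mul_inv_eq_one.1 e)
        · exfalso
          have e4 : (y * z) * (α y * α z) = a * b := by rw [← h4]; simp only [mul_assoc]
          have hc5 := hj _ (subset_closure (Or.inr ⟨y, z, hy, hz, rfl⟩) : y * z ∈ pairTwo D a b)
          have : (α y * α z) = (y * z)⁻¹ * (a * b) := by rw [← e4]; group
          rw [this] at e
          have h7 : y * z * ((y * z)⁻¹ * (a * b)) * (y * z)⁻¹ * ((y * z)⁻¹ * (a * b))⁻¹ = 1 := by
            rw [mul_inv_cancel_left, hc5.inv_right.eq, mul_inv_cancel]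
          rw [h7] at e
          exact hb.2.1 (by rw [← inv_eq hE ha]; exact (mul_eq_one_iff_inv_eq.1 e.symm).symm)
      rw [show (y * z)⁻¹ = y * z by rw [mul_inv_rev, inv_eq hE hy.1.1, inv_eq hE hzP.1.1, hzc.eq],
        ← hc4.eq, ← mul_assoc, h4]
      exact mem_zpowers _
  induction hx using closure_induction with
  | mem s hs => exact hgen s hs
  | one => simp
  | mul v w hv hw iv iw =>
    rw [map_mul, show α v * α w * (v * w)⁻¹ = α v * (α w * w⁻¹) * v⁻¹ by group]
    obtain ⟨n, hn⟩ := mem_zpowers_iff.1 iw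
    rw [← hn, ((hj _ (hα.two_mem h ha hb hv)).zpow_left n).symm.eq, mul_assoc]
    exact mul_mem (zpow_mem (mem_zpowers _) n) iv
  | inv v hv iv =>
    rw [map_inv, inv_inv]
    obtain ⟨n, hn⟩ := mem_zpowers_iff.1 (inv_mem iv)
    rw [mul_inv_rev, inv_inv] at hn
    rw [show (α v)⁻¹ * v = v⁻¹ * (v * (α v)⁻¹) * v by group, ← hn, ← ((hj _ (inv_mem hv)).zpow_left n).eq,
      inv_mul_cancel_right]
    exact zpow_mem (mem_zpowers _) n

set_option maxHeartbeats 800000 in
/-- The automorphism is trivial on the joint centraliser modulo the subgroup. -/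
theorem pair_move {k : G} (hk : k ∈ centralizer ({a, b} : Set G)) : α k * k⁻¹ ∈ pairTwo D a b := by
  obtain ⟨F, _, _, H, π, vec, u, P⟩ := h.exists_pairModel ha hb
  obtain ⟨ψ, hψ⟩ := P.exists_isPsi
  obtain ⟨-, hker, -⟩ := P.pairTwo_facts hψ
  haveI := P.model.six.fd
  have hF : Fintype.card F = 4 := by rw [← Nat.card_eq_fintype_card]; exact P.model.four
  obtain ⟨hSU, -, hsimp, -⟩ := four_space_facts hF P.space_four P.space_dim
  have hn : ∀ c ∈ centralizer ({a, b} : Set G), ∀ e ∈ pairTwo D a b, c * e * c⁻¹ ∈ pairTwo D a b := fun c hc e he =>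
    P.two_normal hψ (h.pair_le_prod ha hb hc) he
  let S : Subgroup ↥(centralizer ({a, b} : Set G)) :=
    { carrier := {k | α (k : G) * (k : G)⁻¹ ∈ pairTwo D a b}
      one_mem' := by simp
      mul_mem' := fun {v w} hv hw => by
        show α ((v : G) * w) * ((v : G) * w)⁻¹ ∈ pairTwo D a b
        rw [map_mul, show α (v : G) * α (w : G) * ((v : G) * w)⁻¹ =
          (α (v : G) * (v : G)⁻¹) * ((v : G) * (α (w : G) * (w : G)⁻¹) * (v : G)⁻¹) by group]
        exact mul_mem hv (hn _ v.2 _ hw)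
      inv_mem' := fun {v} hv => by
        show α ((v : G)⁻¹) * (v : G)⁻¹⁻¹ ∈ pairTwo D a b
        rw [map_inv, show (α (v : G))⁻¹ * (v : G)⁻¹⁻¹ =
          (v : G)⁻¹ * (α (v : G) * (v : G)⁻¹)⁻¹ * (v : G)⁻¹⁻¹ by group]
        exact hn _ (inv_mem v.2) _ (inv_mem hv) }
  let M : Subgroup ↥(centralizer ({a, b} : Set G)) := closure {k : ↥(centralizer ({a, b} : Set G)) | (k : G) ∈ perp D a ∩ perp D b}
  have hMS : M ≤ S := (closure_le _).2 fun v hv => by
    show α (v : G) * (v : G)⁻¹ ∈ pairTwo D a b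
    have h1 : Commute (v : G) (α v) :=
      (hα.mate v hv).2.2 v hv.1.1 hv.1.2.2.symm hv.2.2.2.symm (Commute.refl _)
    rw [inv_eq h.cls.1 hv.1.1, ← h1.eq]
    exact subset_closure (Or.inr ⟨_, _, hv, hα.mate v hv, rfl⟩)
  have hES : ψ.ker ≤ S := fun v hv => by
    have : (v : G) ∈ pairTwo D a b := hker.ge ⟨v, hv, rfl⟩
    exact mul_mem (hα.two_mem h ha hb this) (inv_mem this)
  haveI : (M.map ψ).Normal := by
    refine Subgroup.Normal.map ⟨fun x hx g => ?_⟩ ψ hψ.1
    induction hx using closure_induction with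
    | mem v hv =>
      refine subset_closure (mem_inter_conj h.cls (g : G) (Or.inl ?_) hv)
      have := mem_centralizer_pair.1 g.2
      exact ⟨mul_inv_eq_iff_eq_mul.2 this.1.eq, mul_inv_eq_iff_eq_mul.2 this.2.eq⟩
    | one => simp
    | mul v w _ _ iv iw =>
      rw [show g * (v * w) * g⁻¹ = g * v * g⁻¹ * (g * w * g⁻¹) by group]
      exact mul_mem iv iw
    | inv v _ iv =>
      rw [show g * v⁻¹ * g⁻¹ = (g * v * g⁻¹)⁻¹ by group]
      exact inv_mem iv
  have htop : M.map ψ = ⊤ := by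
    rcases hsimp.eq_bot_or_eq_top_of_normal (M.map ψ) inferInstance with e | e
    · exfalso
      obtain ⟨y, hy⟩ := Set.nonempty_of_ncard_ne_zero (s := perp D a ∩ perp D b) (by
        classical
        haveI : Fintype ↥(perp D a ∩ perp D b) := Fintype.ofFinite _
        rw [← Nat.card_coe_set_eq, Nat.card_eq_fintype_card]
        have := h.card_common ha hb
        convert_to 180 ≠ 0
        · convert this
        · norm_num)
      have h1 : ψ ⟨y, inter_subset_centralizer hy⟩ = 1 :=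
        mem_bot.1 (e ▸ mem_map_of_mem ψ (subset_closure hy))
      have h2 : y ∈ pairTwo D a b := hker.ge ⟨_, h1, rfl⟩
      refine P.not_act_trivially hψ hy fun e' he' => ⟨1, fun _ _ => Commute.one_left _, y, h2, (one_mul y).symm⟩
    · exact e
  obtain ⟨w, hw, hwk⟩ : ψ ⟨k, hk⟩ ∈ M.map ψ := htop ▸ mem_top _
  have hm : (⟨k, hk⟩ : ↥(centralizer ({a, b} : Set G))) * w⁻¹ ∈ ψ.ker := by rw [MonoidHom.mem_ker, map_mul, map_inv, hwk, mul_inv_cancel]
  have := mul_mem (hES hm) (hMS hw)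
  rw [inv_mul_cancel_right] at this
  exact this

/-- The automorphism is trivial on the centraliser of the product modulo the subgroup. -/
theorem cent_move {c : G} (hc : c ∈ centralizer ({a * b} : Set G)) : α c * c⁻¹ ∈ pairTwo D a b := by
  obtain ⟨F, _, _, H, π, vec, u, P⟩ := h.exists_pairModel ha hb
  obtain ⟨ψ, hψ⟩ := P.exists_isPsi
  refine P.mem_two_of_central hψ (mul_mem (hα.mem_cent h ha hb hc) (inv_mem hc)) fun k hk => ?_
  have hk' : c⁻¹ * k * c ∈ centralizer ({a, b} : Set G) := by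
    simpa using P.pair_normal (inv_mem hc) hk
  have h1 := hα.pair_move h ha hb hk'
  have h2 := P.two_normal hψ (hα.mem_cent h ha hb hc) h1
  have h3 := mul_mem (inv_mem h2) (hα.pair_move h ha hb hk)
  rw [map_mul, map_mul, map_inv] at h3
  rw [show α c * c⁻¹ * k * (α c * c⁻¹)⁻¹ * k⁻¹ =
    (α c * ((α c)⁻¹ * α k * α c * (c⁻¹ * k * c)⁻¹) * (α c)⁻¹)⁻¹ * (α k * k⁻¹) by group]
  exact h3

end PairFlip

end Cfsg.Lib.ThreeTr
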