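import Cfsg.Agent.ThreeTransposition.FiTwentyTwo.PairFlipLarge
import Cfsg.Agent.ThreeTransposition.Y332.Iso
import Cfsg.Agent.FiPres.PairSwap

/-!
Every pair of commuting members of a class of type M(22) is exchanged by such an automorphism.
-/

set_option autoImplicit false
set_option linter.unusedSectionVars false

namespace Cfsg.Lib.ThreeTr

open Cfsg Subgroup

universe u v

variable {K : Type v} [Group K] {C : Set K} {G : Type u} [Group G] {D : Set G}

/-- Transport along an isomorphism. -/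
theorem PairFlip.congr (e : K ≃* G) (hD : e '' C = D) {a b : K} {α : MulAut K} (h : PairFlip C a b α) :
    PairFlip D (e a) (e b) (MulAut.congr e α) := by
  have hm : ∀ x : K, e x ∈ D ↔ x ∈ C := fun x => by rw [← hD]; exact e.injective.mem_set_image
  have hp : ∀ p x : K, e x ∈ perp D (e p) ↔ x ∈ perp C p := fun p x => by
    simp only [perp, Set.mem_ofPred_eq, hm, ne_eq, e.injective.eq_iff]
    exact and_congr_right fun _ => and_congr_right fun _ =>
      ⟨fun c => by
        have := c.map e.symm.toMonoidHom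
        simpa using this, fun c => c.map e.toMonoidHom⟩
  have hc : ∀ p q : K, Commute (e p) (e q) ↔ Commute p q := fun p q =>
    ⟨fun c => by
      have := c.map e.symm.toMonoidHom
      simpa using this, fun c => c.map e.toMonoidHom⟩
  have hmate : ∀ y z : K, Mate D (e a) (e b) (e y) (e z) ↔ Mate C a b y z := fun y z => by
    refine and_congr (and_congr (hp a z) (hp b z)) (and_congr (hm z) ⟨fun hh t ht c1 c2 c3 => ?_, fun hh t ht c1 c2 c3 => ?_⟩)
    · exact (hc t z).1 (hh _ ((hm t).2 ht) ((hc t a).2 c1) ((hc t b).2 c2) ((hc t y).2 c3))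
    · obtain ⟨t, rfl⟩ := e.surjective t
      exact (hc t z).2 (hh _ ((hm t).1 ht) ((hc t a).1 c1) ((hc t b).1 c2) ((hc t y).1 c3))
  have hα : ∀ x : K, MulAut.congr e α (e x) = e (α x) := fun x => by simp [MulAut.congr]
  refine ⟨by rw [← map_mul, h.sq, map_one], fun x hx => ?_, by rw [hα, h.flip], fun y hy => ?_,
    fun y z hy hz hf => ?_⟩
  · obtain ⟨x, rfl⟩ := e.surjective x
    rw [hα]
    exact (hm _).2 (h.mem x ((hm x).1 hx))
  · obtain ⟨y, rfl⟩ := e.surjective y
    rw [hα, hmate]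
    exact h.mate y ⟨(hp a y).1 hy.1, (hp b y).1 hy.2⟩
  · obtain ⟨y, rfl⟩ := e.surjective y
    obtain ⟨z, rfl⟩ := e.surjective z
    rw [hα] at hf ⊢
    rw [h.trans y z ⟨(hp a y).1 hy.1, (hp b y).1 hy.2⟩ ((hmate y z).1 hz) (e.injective hf)]

variable [Finite G]

theorem M22.exists_pairFlip (h : M22 D) {a b : G} (ha : a ∈ D) (hb : b ∈ perp D a) :
    ∃ α : MulAut G, PairFlip D a b α ∧ Nat.card (MulAut G) ≤ 2 * Nat.card G := by
  open Cfsg.Lib.FiPres in
  obtain ⟨e, he⟩ := Y332.exists_iso h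
  open Cfsg.Lib.FiPres in
  obtain ⟨hA, hB⟩ := (mem_pair (y := ⟨14, by norm_num⟩)).2 (by decide +kernel)
  open Cfsg.Lib.FiPres in
  have hmem : tr flipA ∈ transp ∧ tr flipB ∈ perp transp (tr flipA) := by
    refine ⟨tr_pair.1 ▸ im10_transp 3, tr_pair.2 ▸ im10_transp 8, fun e' => ?_, ?_⟩
    · exact absurd (congrArg Fin.val (tr_injective e')) (by decide)
    · rw [← tr_fix, ← Fin.val_inj, tr_pair.1, tabled.im_smul smul_eq (show 3 < sigTabs.length by decide)]
      decide +kernel
  open Cfsg.Lib.FiPres in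
  have hl₀ : CList D [e (tr flipA), e (tr flipB)] :=
    CList.cons (he ▸ ⟨_, hmem.1, rfl⟩) (CList.cons (he ▸ ⟨_, hmem.2.1, rfl⟩) ⟨List.nodup_nil, by simp, by simp⟩ (by simp))
      (by
        simp only [List.mem_cons, List.not_mem_nil, or_false, forall_eq]
        exact ⟨he ▸ ⟨_, hmem.2.1, rfl⟩, fun e' => hmem.2.2.1 (e.injective e'), hmem.2.2.2.map e.toMonoidHom⟩)
  open Cfsg.Lib.FiPres in
  obtain ⟨g, hg⟩ := h.listTrans [e (tr flipA), e (tr flipB)] [a, b] hl₀
    (CList.cons ha (CList.cons hb.1 ⟨List.nodup_nil, by simp, by simp⟩ (by simp)) (by simpa using hb)) rfl (by simp)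
  simp only [List.map_cons, List.map_nil, List.cons.injEq, and_true] at hg
  open Cfsg.Lib.FiPres in
  refine ⟨MulAut.congr (e.trans (MulAut.conj g)) flipAut, ?_, ?_⟩
  · have := pairFlip.congr (e.trans (MulAut.conj g)) (D := D) (by
      ext x
      constructor
      · rintro ⟨w, hw, rfl⟩
        exact h.conj_D g _ (he ▸ ⟨w, hw, rfl⟩)
      · intro hx
        obtain ⟨w, hw, hwx⟩ := he.symm.subset (h.conj_D g⁻¹ x hx)
        refine ⟨w, hw, ?_⟩
        show g * e w * g⁻¹ = x
        rw [hwx]; group)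
    rw [hg.1, hg.2]
    exact this
  · rw [← Nat.card_congr (MulAut.congr e).toEquiv, ← Nat.card_congr e.toEquiv, Cfsg.Lib.FiPres.factG.1]
    exact Cfsg.Lib.FiPres.card_mulAut

end Cfsg.Lib.ThreeTr
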