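import Cfsg.Agent.ThreeTransposition.M22Count.UniqueClass
import Cfsg.Agent.FiPres.Transp
import Cfsg.Agent.FiPres.Aut
import Cfsg.Agent.FiPres.OrthImage

/-!
A group of type M(22) identified with the presented Fischer group: its transpositions go to the conjugates of the
letters, and the eight letters other than the first give the subgroup isomorphic to the orthogonal group of dimension
seven, which contains a Sylow 3-subgroup.
-/

set_option autoImplicit false

namespace Cfsg.Lib.ThreeTr

open Cfsg Subgroup Cfsg.Lib.FiPres Cfsg.Lib.CosetCert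

universe u v

variable {G : Type u} [Group G] {D : Set G}

theorem class_preimage {K : Type v} [Group K] {C : Set K} (e : G ≃* K) (hC : IsThreeTranspositionClass C) :
    IsThreeTranspositionClass (e.symm '' C) := by
  refine ⟨⟨?_, ?_⟩, ?_, ?_⟩
  · rintro _ ⟨x, hx, rfl⟩
    rw [MulEquiv.orderOf_eq]
    exact hC.1.1 x hx
  · rintro _ ⟨x, hx, rfl⟩ _ ⟨y, hy, rfl⟩
    rcases hC.1.2 x hx y hy with h | h
    · exact Or.inl (by rw [← map_mul, ← map_pow, h, map_one])
    · exact Or.inr (by rw [← map_mul, ← map_pow, h, map_one])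
  · obtain ⟨d, hd, hCd⟩ := hC.2.1
    refine ⟨e.symm d, ⟨d, hd, rfl⟩, Set.Subset.antisymm ?_ fun x hx => ?_⟩
    · rintro _ ⟨x, hx, rfl⟩
      exact e.symm.toMonoidHom.map_isConj (hCd.subset hx)
    · refine ⟨e x, hCd.symm.subset ?_, e.symm_apply_apply x⟩
      have := e.toMonoidHom.map_isConj ((mem_conjugatesOf').1 hx)
      obtain ⟨k, hk⟩ := isConj_iff.1 this
      refine mem_conjugatesOf'.2 (isConj_iff.2 ⟨k, ?_⟩)
      simpa using hk
  · rw [show ((e.symm : K → G) '' C) = e.symm.toMonoidHom '' C from rfl, ← MonoidHom.map_closure, hC.2.2,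
      Subgroup.map_top_of_surjective _ e.symm.surjective]

/-- The subgroup on eight letters. -/
theorem omega_seven_subgroup [Finite G] (h : M22 D) (e : G ≃* Cfsg.Spor.Fi22) :
    ∃ L : Subgroup G, IsDSubgroup D L ∧ Nonempty (↥L ≃* POmega (ZMod 3) (quadFormOdd 3 (ZMod 3))) ∧
      ∀ P : Sylow 3 ↥L, ∃ P' : Sylow 3 G, (P : Subgroup ↥L).map L.subtype = (P' : Subgroup G) := by
  haveI : Fact (Nat.Prime 3) := ⟨Nat.prime_three⟩
  have hD : e.symm '' transp = D := h.class_unique (class_preimage e transp_class)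
  set L := (lgp im10 [1, 2, 3, 4, 5, 6, 7, 8]).map e.symm.toMonoidHom with hL
  obtain ⟨φ⟩ := iso_k
  refine ⟨L, ?_, ⟨(equivMapOfInjective _ _ e.symm.injective).symm.trans φ⟩, fun P => ?_⟩
  · refine le_antisymm ((closure_le _).2 fun x hx => hx.2) ?_
    rw [hL, lgp, MonoidHom.map_closure]
    refine closure_mono ?_
    rintro _ ⟨x, ⟨l, hl, rfl⟩, rfl⟩
    have hl9 : l < 9 := by
      simp only [Set.mem_ofPred_eq, List.mem_cons, List.not_mem_nil, or_false] at hl
      omega
    refine ⟨hD ▸ ⟨_, im10_transp ⟨l, hl9⟩, rfl⟩, ?_⟩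
    exact Subgroup.subset_closure ⟨im10 l, ⟨l, hl, rfl⟩, rfl⟩
  · have hidx : L.index = 14080 := by
      rw [hL, index_map_of_bijective (f := e.symm.toMonoidHom) e.symm.bijective, index_k]
    have hG := L.card_mul_index
    rw [hidx] at hG
    refine ⟨Sylow.ofCard ((P : Subgroup ↥L).map L.subtype) ?_, rfl⟩
    rw [card_map_of_injective L.subtype_injective, Sylow.card_eq_multiplicity, ← hG,
      Nat.factorization_mul (Nat.card_pos.ne') (by norm_num), Finsupp.add_apply,
      Nat.factorization_eq_zero_of_not_dvd (n := 14080) (by norm_num), add_zero]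

end Cfsg.Lib.ThreeTr
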