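import Cfsg.Agent.ThreeTransposition.FiTwentyTwo.PairFlip

/-!
The subgroup of the automorphism group made of the inner 2-subgroup of a pair and the exchanging automorphism, and
the centraliser of the product of the pair.
-/

set_option autoImplicit false
set_option linter.unusedSectionVars false
set_option linter.style.haveILetI false

namespace Cfsg.Lib.ThreeTr

open Cfsg Subgroup Cfsg.Lib.Classical

universe u

variable {G : Type u} [Group G] {D : Set G} [Finite G] {a b : G} {α : MulAut G} (h : M22 D) (ha : a ∈ D)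
  (hb : b ∈ perp D a) (hα : PairFlip D a b α) (hA : Nat.card (MulAut G) ≤ 2 * Nat.card G)

namespace PairFlip

theorem conj_injective {H : Type*} [Group H] (hZ : center H = ⊥) : Function.Injective (MulAut.conj : H →* MulAut H) := by
  refine (injective_iff_map_eq_one _).2 fun x hx => mem_bot.1 (hZ ▸ mem_center_iff.2 fun g => ?_)
  have := DFunLike.congr_fun hx g
  rw [MulAut.conj_apply, MulAut.one_apply] at this
  exact (mul_inv_eq_iff_eq_mul.1 this).symm

include h ha hb hα

theorem conj_comm (g : G) : MulAut.conj g * α = α * MulAut.conj (α g) := by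
  ext x
  simp only [MulAut.mul_apply, MulAut.conj_apply, map_mul, map_inv, hα.invol h ha hb]

theorem mem_flipGroup {x : MulAut G} :
    x ∈ flipGroup D a b α ↔ ∃ e ∈ pairTwo D a b, x = MulAut.conj e ∨ x = α * MulAut.conj e := by
  constructor
  · intro hx
    let S : Subgroup (MulAut G) :=
      { carrier := {x | ∃ e ∈ pairTwo D a b, x = MulAut.conj e ∨ x = α * MulAut.conj e}
        one_mem' := ⟨1, one_mem _, Or.inl (map_one _).symm⟩
        mul_mem' := by
          rintro x y ⟨e, he, rfl | rfl⟩ ⟨f, hf, rfl | rfl⟩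
          · exact ⟨e * f, mul_mem he hf, Or.inl (map_mul _ _ _).symm⟩
          · exact ⟨α e * f, mul_mem (hα.two_mem h ha hb he) hf, Or.inr (by
              rw [← mul_assoc, hα.conj_comm h ha hb, mul_assoc, ← map_mul])⟩
          · exact ⟨e * f, mul_mem he hf, Or.inr (by rw [mul_assoc, ← map_mul])⟩
          · refine ⟨α e * f, mul_mem (hα.two_mem h ha hb he) hf, Or.inl ?_⟩
            rw [mul_assoc α, ← mul_assoc (MulAut.conj e), hα.conj_comm h ha hb, mul_assoc α, ← map_mul, ← mul_assoc,
              hα.sq, one_mul]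
        inv_mem' := by
          rintro x ⟨e, he, rfl | rfl⟩
          · exact ⟨e⁻¹, inv_mem he, Or.inl (map_inv _ _).symm⟩
          · refine ⟨α e⁻¹, hα.two_mem h ha hb (inv_mem he), Or.inr ?_⟩
            rw [mul_inv_rev, inv_eq_of_mul_eq_one_right hα.sq, ← map_inv, hα.conj_comm h ha hb] }
    have hle : flipGroup D a b α ≤ S := sup_le
      (by rintro _ ⟨e, he, rfl⟩; exact ⟨e, he, Or.inl rfl⟩)
      (zpowers_le.2 ⟨1, one_mem _, Or.inr (by rw [map_one, mul_one])⟩)
    exact hle hx
  · rintro ⟨e, he, rfl | rfl⟩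
    · exact le_sup_left (α := Subgroup (MulAut G)) ⟨e, he, rfl⟩
    · exact mul_mem (le_sup_right (α := Subgroup (MulAut G)) (mem_zpowers α))
        (le_sup_left (α := Subgroup (MulAut G)) ⟨e, he, rfl⟩)

theorem not_inner (g : G) : α ≠ MulAut.conj g := by
  obtain ⟨F, _, _, H, π, vec, u, P⟩ := h.exists_pairModel ha hb
  obtain ⟨ψ, hψ⟩ := P.exists_isPsi
  intro e
  have hgc : g ∈ centralizer ({a * b} : Set G) := by
    have := hα.fix_j h ha hb
    rw [e, MulAut.conj_apply] at this
    exact mem_centralizer_singleton_iff.2 (mul_inv_eq_iff_eq_mul.1 this)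
  have hg : g ∈ pairTwo D a b := P.mem_two_of_central hψ hgc fun k hk => by
    have := hα.pair_move h ha hb hk
    rwa [e, MulAut.conj_apply] at this
  have := (mem_centralizer_pair.1 (pairTwo_le hb.2.2 hg)).1
  have h2 := hα.flip
  rw [e, MulAut.conj_apply, this.eq, mul_inv_cancel_right] at h2
  exact hb.2.1 h2.symm

theorem card_flipGroup : Nat.card ↥(flipGroup D a b α) = 2 ^ 11 := by
  obtain ⟨F, _, _, H, π, vec, u, P⟩ := h.exists_pairModel ha hb
  obtain ⟨ψ, hψ⟩ := P.exists_isPsi
  obtain ⟨hcard, -, -⟩ := P.pairTwo_facts hψ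
  have hinj := conj_injective h.center_eq
  let f : Bool × pairTwo D a b → flipGroup D a b α := fun p =>
    ⟨cond p.1 α 1 * MulAut.conj (p.2 : G), (hα.mem_flipGroup h ha hb).2 ⟨p.2, p.2.2, by
      obtain ⟨i, e⟩ := p; cases i <;> simp⟩⟩
  have hf : Function.Bijective f := by
    constructor
    · rintro ⟨i, e⟩ ⟨j, e'⟩ heq
      have h0 : cond i α 1 * MulAut.conj (e : G) = cond j α 1 * MulAut.conj (e' : G) := congrArg Subtype.val heq
      cases i <;> cases j <;> simp only [cond_true, cond_false, one_mul] at h0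
      · rw [Subtype.ext (hinj h0)]
      · exact absurd (by rw [map_mul, map_inv, h0, mul_inv_cancel_right]) (hα.not_inner h ha hb ((e : G) * (e' : G)⁻¹))
      · exact absurd (by rw [map_mul, map_inv, ← h0, mul_inv_cancel_right]) (hα.not_inner h ha hb ((e' : G) * (e : G)⁻¹))
      · rw [Subtype.ext (hinj (mul_left_cancel h0))]
    · rintro ⟨x, hx⟩
      obtain ⟨e, he, rfl | rfl⟩ := (hα.mem_flipGroup h ha hb).1 hx
      · exact ⟨(false, ⟨e, he⟩), Subtype.ext (one_mul _)⟩
      · exact ⟨(true, ⟨e, he⟩), rfl⟩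
  rw [← Nat.card_congr (Equiv.ofBijective f hf), Nat.card_prod, hcard, Nat.card_eq_fintype_card, Fintype.card_bool]
  norm_num

theorem fix_conj_j : MulAut.conj (a * b) ∈ flipGroup D a b α ∧
    ∀ x ∈ flipGroup D a b α, Commute x (MulAut.conj (a * b)) := by
  refine ⟨(hα.mem_flipGroup h ha hb).2 ⟨_, (hα.ab_mem_two h ha hb).2.2, Or.inl rfl⟩, fun x hx => ?_⟩
  have key : ∀ e ∈ pairTwo D a b, Commute (MulAut.conj e) (MulAut.conj (a * b)) := fun e he => by
    have := mem_centralizer_pair.1 (pairTwo_le hb.2.2 he)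
    exact (this.1.mul_right this.2).map MulAut.conj
  have hαj : Commute α (MulAut.conj (a * b)) := by
    show α * _ = _ * α
    rw [hα.conj_comm h ha hb, hα.fix_j h ha hb]
  obtain ⟨e, he, rfl | rfl⟩ := (hα.mem_flipGroup h ha hb).1 hx
  · exact key e he
  · exact hαj.mul_left (key e he)

theorem extraspecial : IsExtraspecial 2 ↥(flipGroup D a b α) ∧
    (center ↥(flipGroup D a b α)).map (flipGroup D a b α).subtype = zpowers (MulAut.conj (a * b)) := by
  obtain ⟨F, _, _, H, π, vec, u, P⟩ := h.exists_pairModel ha hb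
  obtain ⟨ψ, hψ⟩ := P.exists_isPsi
  obtain ⟨-, -, hcen⟩ := P.pairTwo_facts hψ
  obtain ⟨hcm, hsq⟩ := P.pairTwo_comm
  have hinj := conj_injective h.center_eq
  set Q := flipGroup D a b α
  set z : MulAut G := MulAut.conj (a * b) with hzdef
  have hz := hα.fix_conj_j h ha hb
  have hQ : Q = closure (MulAut.conj '' (pairTwo D a b : Set G) ∪ {α}) := by
    show (pairTwo D a b).map MulAut.conj ⊔ zpowers α = _
    rw [Subgroup.closure_union, ← zpowers_eq_closure, ← Subgroup.coe_map, closure_eq]
  obtain ⟨hQc, hQs⟩ := class_two_closure (S := MulAut.conj '' (pairTwo D a b : Set G) ∪ {α}) (z := z)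
    (fun s hs => (hz.2 s (hQ.ge (subset_closure hs))).symm)
    (by
      rintro s (⟨e, he, rfl⟩ | rfl) t (⟨f, hf, rfl⟩ | rfl)
      · obtain ⟨n, hn⟩ := mem_zpowers_iff.1 (hcm e he f hf)
        rw [← map_inv, ← map_inv, ← map_mul, ← map_mul, ← map_mul, ← hn, map_zpow]
        exact zpow_mem (mem_zpowers _) n
      · obtain ⟨n, hn⟩ := mem_zpowers_iff.1 (inv_mem (hα.two_move h ha hb he))
        rw [mul_inv_rev, inv_inv] at hn
        have e2 : MulAut.conj e * t * (MulAut.conj e)⁻¹ * t⁻¹ = MulAut.conj (e * (t e)⁻¹) := by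
          ext x
          simp only [MulAut.mul_apply, MulAut.conj_apply, MulAut.conj_inv_apply, map_mul, map_inv,
            inv_eq_of_mul_eq_one_right hα.sq, hα.invol h ha hb, mul_inv_rev, inv_inv, mul_assoc]
        rw [e2, ← hn, map_zpow]
        exact zpow_mem (mem_zpowers _) n
      · obtain ⟨n, hn⟩ := mem_zpowers_iff.1 (hα.two_move h ha hb hf)
        have e2 : s * MulAut.conj f * s⁻¹ * (MulAut.conj f)⁻¹ = MulAut.conj (s f * f⁻¹) := by
          ext x
          simp only [MulAut.mul_apply, MulAut.conj_apply, MulAut.conj_inv_apply, map_mul, map_inv,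
            inv_eq_of_mul_eq_one_right hα.sq, hα.invol h ha hb, mul_inv_rev, inv_inv, mul_assoc]
        rw [e2, ← hn, map_zpow]
        exact zpow_mem (mem_zpowers _) n
      · simp)
    (by
      rintro s (⟨e, he, rfl⟩ | rfl)
      · obtain ⟨n, hn⟩ := mem_zpowers_iff.1 (hsq e he)
        rw [← map_mul, ← hn, map_zpow]
        exact zpow_mem (mem_zpowers _) n
      · rw [hα.sq]; exact one_mem _)
  rw [← hQ] at hQc hQs
  have hjj : (a * b) * (a * b) = 1 := by
    rw [hb.2.2.symm.mul_mul_mul_comm, sq_eq_one h.cls.1 ha, sq_eq_one h.cls.1 hb.1, one_mul]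
  have hzo : orderOf z = 2 := by
    refine orderOf_eq_prime (by rw [pow_two, hzdef, ← map_mul, hjj, map_one]) fun e => ?_
    have h1 : a * b = 1 := hinj (e.trans (map_one _).symm)
    exact hb.2.1 (by rw [← inv_eq h.cls.1 ha]; exact (mul_eq_one_iff_inv_eq.1 h1).symm)
  set Z : Subgroup ↥Q := zpowers ⟨z, hz.1⟩
  have hmemZ : ∀ m : ↥Q, (m : MulAut G) ∈ zpowers z → m ∈ Z := fun m hm => by
    obtain ⟨n, hn⟩ := mem_zpowers_iff.1 hm
    exact mem_zpowers_iff.2 ⟨n, Subtype.ext (by rw [Subgroup.coe_zpow]; exact hn)⟩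
  have hZcard : Nat.card ↥Z = 2 := by
    rw [Nat.card_zpowers, ← Subgroup.orderOf_coe]; exact hzo
  have haQ : MulAut.conj a ∈ Q := (hα.mem_flipGroup h ha hb).2 ⟨a, (hα.ab_mem_two h ha hb).1, Or.inl rfl⟩
  have hαQ : α ∈ Q := le_sup_right (α := Subgroup (MulAut G)) (mem_zpowers α)
  have hcenZ : center ↥Q = Z := by
    refine le_antisymm (fun m hm => hmemZ m ?_) (zpowers_le.2 (mem_center_iff.2 fun g =>
      Subtype.ext (hz.2 g g.2).eq))
    have hmc : ∀ y ∈ Q, y * (m : MulAut G) = (m : MulAut G) * y := fun y hy =>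
      congrArg Subtype.val (mem_center_iff.1 hm ⟨y, hy⟩)
    obtain ⟨e, he, hme⟩ := (hα.mem_flipGroup h ha hb).1 m.2
    have hea : Commute e a := (mem_centralizer_pair.1 (pairTwo_le hb.2.2 he)).1
    rcases hme with hme | hme
    · have hec : e ∈ centralizer (pairTwo D a b : Set G) := mem_centralizer_iff.2 fun f hf => hinj (by
        rw [map_mul, map_mul]
        have := hmc _ ((hα.mem_flipGroup h ha hb).2 ⟨f, hf, Or.inl rfl⟩)
        rwa [hme] at this)
      have h1 : e ∈ closure ({a, b} : Set G) := hcen.le ⟨he, hec⟩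
      have h2 : e = 1 ∨ e = a ∨ e = b ∨ e = a * b := by
        have hc' := hb.2.2
        clear he hec hea hme
        induction h1 using closure_induction with
        | mem s hs => rcases hs with rfl | rfl <;> simp
        | one => simp
        | mul s t _ _ hs ht =>
          have aa := sq_eq_one h.cls.1 ha
          have bb := sq_eq_one h.cls.1 hb.1
          have q1 : a * (a * b) = b := by rw [← mul_assoc, aa, one_mul]
          have q2 : a * b * a = b := by rw [hc'.eq, mul_assoc, aa, mul_one]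
          have q3 : b * (a * b) = a := by rw [hc'.eq, ← mul_assoc, bb, one_mul]
          have q4 : a * b * b = a := by rw [mul_assoc, bb, mul_one]
          rcases hs with rfl | rfl | rfl | rfl <;> rcases ht with rfl | rfl | rfl | rfl <;>
            simp [aa, bb, hjj, q1, q2, q3, q4, hc'.eq.symm]
        | inv s _ hs =>
          rcases hs with rfl | rfl | rfl | rfl
          · simp
          · rw [inv_eq h.cls.1 ha]; simp
          · rw [inv_eq h.cls.1 hb.1]; simp
          · rw [inv_eq_of_mul_eq_one_right hjj]; simp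
      have h3 : α e = e := hinj (by
        have h4 := hmc α hαQ
        rw [hme, hα.conj_comm h ha hb] at h4
        exact (mul_left_cancel h4).symm)
      rcases h2 with rfl | rfl | rfl | rfl
      · rw [hme, map_one]; exact one_mem _
      · rw [hα.flip] at h3; exact absurd h3 hb.2.1
      · rw [hα.flip' h ha hb] at h3; exact absurd h3.symm hb.2.1
      · rw [hme]; exact mem_zpowers _
    · exfalso
      have h4 := hmc _ haQ
      rw [hme, ← mul_assoc, hα.conj_comm h ha hb, hα.flip, mul_assoc, mul_assoc, ← map_mul, ← map_mul] at h4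
      have h5 : b * e = e * a := hinj (mul_left_cancel h4)
      rw [hea.eq] at h5
      exact hb.2.1 (mul_right_cancel h5)
  haveI hZn : Z.Normal := hcenZ ▸ inferInstance
  have hP : IsPGroup 2 ↥Q := IsPGroup.of_card (n := 11) (hα.card_flipGroup h ha hb)
  have hDle : commutator ↥Q ≤ Z := by
    rw [commutator_eq_closure, closure_le]
    rintro _ ⟨x, y, rfl⟩
    exact hmemZ _ (hQc _ x.2 _ y.2)
  have hne : commutator ↥Q ≠ ⊥ := fun e => by
    have h1 : (⟨MulAut.conj a, haQ⟩ : ↥Q) * ⟨α, hαQ⟩ * (⟨MulAut.conj a, haQ⟩ : ↥Q)⁻¹ * (⟨α, hαQ⟩ : ↥Q)⁻¹ ∈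
        commutator ↥Q := by
      rw [← commutatorElement_def]; exact commutator_mem_commutator (mem_top _) (mem_top _)
    rw [e, mem_bot, mul_inv_eq_one, mul_inv_eq_iff_eq_mul] at h1
    have h2 : MulAut.conj a * α = α * MulAut.conj a := congrArg Subtype.val h1
    rw [hα.conj_comm h ha hb, hα.flip] at h2
    exact hb.2.1 (hinj (mul_left_cancel h2))
  have hD : commutator ↥Q = Z := by
    refine Subgroup.eq_of_le_of_card_ge hDle ?_
    rw [hZcard]
    exact (Subgroup.one_lt_card_iff_ne_bot _).2 hne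
  have hF : frattini ↥Q = Z := le_antisymm
    (Cfsg.Lib.SolvStruct.TwoRank.frattini_le_of_sq Z fun g => hmemZ _ (hQs g g.2))
    (hD ▸ Cfsg.Lib.PGroups.commutator_le_frattini hP)
  refine ⟨⟨⟨hP, hF.trans hcenZ.symm, hD.trans hcenZ.symm⟩, by rw [hcenZ, hZcard]⟩, ?_⟩
  rw [hcenZ, MonoidHom.map_zpowers]
  rfl

include hA

theorem inner_or (β : MulAut G) : ∃ c : G, β = MulAut.conj c ∨ β = α * MulAut.conj c := by
  by_contra hcon
  push Not at hcon
  haveI : Finite (MulAut G) := Finite.of_injective _ DFunLike.coe_injective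
  let f : Option (Bool × G) → MulAut G := fun o => o.elim β fun p => cond p.1 α 1 * MulAut.conj p.2
  have hinj := conj_injective h.center_eq
  have hf : Function.Injective f := by
    rintro (_ | ⟨i, c⟩) (_ | ⟨j, d⟩) heq
    · rfl
    · cases j
      · exact absurd (heq.trans (one_mul _)) (hcon d).1
      · exact absurd heq (hcon d).2
    · cases i
      · exact absurd ((one_mul _).symm.trans heq).symm (hcon c).1
      · exact absurd heq.symm (hcon c).2
    · change cond i α 1 * MulAut.conj c = cond j α 1 * MulAut.conj d at heq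
      cases i <;> cases j <;> simp only [cond_true, cond_false, one_mul] at heq
      · rw [hinj heq]
      · exact absurd (by rw [map_mul, map_inv, heq, mul_inv_cancel_right]) (hα.not_inner h ha hb (c * d⁻¹))
      · exact absurd (by rw [map_mul, map_inv, ← heq, mul_inv_cancel_right]) (hα.not_inner h ha hb (d * c⁻¹))
      · rw [hinj (mul_left_cancel heq)]
  have := Nat.card_le_card_of_injective f hf
  rw [Finite.card_option, Nat.card_prod, Nat.card_eq_fintype_card (α := Bool), Fintype.card_bool] at this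
  omega

theorem mem_centralizer {β : MulAut G} (hβ : β ∈ centralizer ({MulAut.conj (a * b)} : Set (MulAut G))) :
    ∃ c ∈ centralizer ({a * b} : Set G), β = MulAut.conj c ∨ β = α * MulAut.conj c := by
  obtain ⟨c, hc⟩ := hα.inner_or h ha hb hA β
  refine ⟨c, ?_, hc⟩
  rw [mem_centralizer_singleton_iff] at hβ ⊢
  have hinj := conj_injective h.center_eq
  refine hinj ?_
  rw [map_mul _ c, map_mul _ (a * b)]
  rcases hc with rfl | rfl
  · exact hβ
  · have hαj : Commute α (MulAut.conj (a * b)) :=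
      (hα.fix_conj_j h ha hb).2 α (le_sup_right (α := Subgroup (MulAut G)) (mem_zpowers α))
    rw [mul_assoc, ← mul_assoc (MulAut.conj (a * b)), ← hαj.eq, mul_assoc] at hβ
    exact mul_left_cancel hβ

omit hA in
theorem conj_normal {c : G} (hc : c ∈ centralizer ({a * b} : Set G)) {x : MulAut G} (hx : x ∈ flipGroup D a b α) :
    MulAut.conj c * x * (MulAut.conj c)⁻¹ ∈ flipGroup D a b α := by
  obtain ⟨F, _, _, H, π, vec, u, P⟩ := h.exists_pairModel ha hb
  obtain ⟨ψ, hψ⟩ := P.exists_isPsi
  obtain ⟨e, he, rfl | rfl⟩ := (hα.mem_flipGroup h ha hb).1 hx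
  · refine (hα.mem_flipGroup h ha hb).2 ⟨_, P.two_normal hψ hc he, Or.inl ?_⟩
    rw [map_mul, map_mul, map_inv]
  · refine (hα.mem_flipGroup h ha hb).2 ⟨_, mul_mem (hα.cent_move h ha hb hc) (P.two_normal hψ hc he), Or.inr ?_⟩
    rw [show α c * c⁻¹ * (c * e * c⁻¹) = α c * e * c⁻¹ by group, map_mul, map_mul, map_inv, ← mul_assoc,
      hα.conj_comm h ha hb]
    simp only [mul_assoc]

theorem normal : centralizer ({MulAut.conj (a * b)} : Set (MulAut G)) ≤ normalizer (flipGroup D a b α : Set (MulAut G)) := by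
  have key : ∀ β ∈ centralizer ({MulAut.conj (a * b)} : Set (MulAut G)), ∀ x ∈ flipGroup D a b α,
      β * x * β⁻¹ ∈ flipGroup D a b α := by
    intro β hβ x hx
    have hαQ : α ∈ flipGroup D a b α := le_sup_right (α := Subgroup (MulAut G)) (mem_zpowers α)
    obtain ⟨c, hc, rfl | rfl⟩ := hα.mem_centralizer h ha hb hA hβ
    · exact hα.conj_normal h ha hb hc hx
    · rw [show α * MulAut.conj c * x * (α * MulAut.conj c)⁻¹ =
        α * (MulAut.conj c * x * (MulAut.conj c)⁻¹) * α⁻¹ by group]
      exact mul_mem (mul_mem hαQ (hα.conj_normal h ha hb hc hx)) (inv_mem hαQ)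
  intro β hβ
  rw [mem_normalizer_iff]
  refine fun x => ⟨key β hβ x, fun hx => ?_⟩
  have := key _ (inv_mem hβ) _ hx
  simpa [mul_assoc] using this

end PairFlip

end Cfsg.Lib.ThreeTr
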