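import Cfsg.Agent.ThreeTransposition.FiTwentyTwo.PairFlipGroup

/-!
The subgroup is large, is the generalised Fitting subgroup of the centraliser, and the quotient.
-/

set_option autoImplicit false
set_option linter.unusedSectionVars false
set_option linter.style.haveILetI false

namespace Cfsg.Lib.ThreeTr

open Cfsg Subgroup Cfsg.Lib.Classical

universe u

variable {G : Type u} [Group G] {D : Set G} [Finite G] {a b : G} {α : MulAut G} (h : M22 D) (ha : a ∈ D)
  (hb : b ∈ perp D a) (hα : PairFlip D a b α) (hA : Nat.card (MulAut G) ≤ 2 * Nat.card G)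

namespace PairFlip

include h ha hb

/-- An element commuting with `a`, inverted by `b`, gives a member next to `a` not commuting with `b`. -/
theorem card_inverted {W : Subgroup G} (hodd : Odd (Nat.card W)) (hWa : ∀ w ∈ W, Commute a w)
    (hWb : ∀ w ∈ W, b * w * b⁻¹ = w⁻¹) : Nat.card W ≤ 693 := by
  have hp : ∀ w : W, (w : G) * b * (w : G)⁻¹ ∈ perp D a := fun w => by
    refine ⟨conj_mem h.cls _ hb.1, fun e => hb.2.1 ?_, ?_⟩
    · calc b = (w : G)⁻¹ * ((w : G) * b * (w : G)⁻¹) * w := by group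
        _ = (w : G)⁻¹ * a * w := by rw [e]
        _ = a := by rw [mul_assoc, (hWa w w.2).eq, inv_mul_cancel_left]
    · exact ((hWa w w.2).mul_right hb.2.2).mul_right (hWa w w.2).inv_right
  rw [← h.ncard_perp ha, ← Nat.card_coe_set_eq]
  refine Nat.card_le_card_of_injective (fun w => (⟨_, hp w⟩ : ↥(perp D a))) fun w v e => Subtype.ext ?_
  have e0 : (w : G) * b * (w : G)⁻¹ = v * b * (v : G)⁻¹ := congrArg Subtype.val e
  set d : G := (v : G)⁻¹ * w
  have hd : d ∈ W := mul_mem (inv_mem v.2) w.2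
  have h1 : d * b * d⁻¹ = b := by
    rw [show d * b * d⁻¹ = (v : G)⁻¹ * ((w : G) * b * (w : G)⁻¹) * v by simp only [d]; group, e0]
    group
  have h2 : d⁻¹ = d := by rw [← hWb d hd, mul_inv_eq_iff_eq_mul, ← mul_inv_eq_iff_eq_mul.1 h1]
  have h3 : d = 1 := by
    by_contra hne
    have h2' : orderOf d = 2 := orderOf_eq_prime (by rw [pow_two]; nth_rw 1 [← h2]; exact inv_mul_cancel d) hne
    exact (Nat.not_even_iff_odd.2 hodd) (even_iff_two_dvd.2 (h2' ▸ Subgroup.orderOf_dvd_natCard W hd))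
  exact (inv_mul_eq_one.1 h3).symm

/-- An abelian subgroup of odd order normalised by the subgroup of the pair, fixed by `a` and inverted by `b`. -/
theorem inverted_bot {W : Subgroup G} (hodd : Odd (Nat.card W)) (hab : ∀ x ∈ W, ∀ y ∈ W, Commute x y)
    (hWa : ∀ w ∈ W, Commute a w) (hWb : ∀ w ∈ W, b * w * b⁻¹ = w⁻¹)
    (hn : ∀ e ∈ pairTwo D a b, ∀ w ∈ W, e * w * e⁻¹ ∈ W) : W = ⊥ := by
  obtain ⟨F, _, _, H, π, vec, u, P⟩ := h.exists_pairModel ha hb
  obtain ⟨hcm, hsq⟩ := P.pairTwo_comm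
  obtain ⟨g, j, hg, hnc, hc⟩ := P.exists_eight
  have hg' : ∀ i, g i ∈ pairTwo D a b := fun i => subset_closure (Or.inr (hg i))
  have hj0 : ∀ i, j i ≠ i := fun i e => hnc i (e.symm ▸ Commute.refl _)
  have hjs : Function.Surjective j := Finite.injective_iff_surjective.1 fun i k e => by
    by_contra hne
    exact hnc i (e ▸ hc k i hne)
  have hjj : ∀ i, j (j i) = i := fun i => by
    obtain ⟨l, hl⟩ := hjs i
    by_contra hne
    have h1 := hc l (j i) (fun e => hne (by rw [e, hl]))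
    rw [hl] at h1
    exact hnc i h1.symm
  obtain ⟨r, hr⟩ := exists_free_three hj0 hjj
  have hjinv : ∀ w ∈ W, (a * b) * w * (a * b)⁻¹ = w⁻¹ := fun w hw => by
    rw [show a * b * w * (a * b)⁻¹ = a * (b * w * b⁻¹) * a⁻¹ by group, hWb w hw,
      (hWa _ (inv_mem hw)).eq, mul_inv_cancel_right]
  have hjsq : (a * b) * (a * b) = 1 := by
    rw [hb.2.2.symm.mul_mul_mul_comm, sq_eq_one h.cls.1 ha, sq_eq_one h.cls.1 hb.1, one_mul]
  have hz : ∀ x ∈ zpowers (a * b), x = 1 ∨ x = a * b := fun x hx => by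
    obtain ⟨n, rfl⟩ := mem_zpowers_iff.1 hx
    rcases Int.even_or_odd n with ⟨k, rfl⟩ | ⟨k, rfl⟩
    · exact Or.inl (by rw [zpow_add, ← (Commute.refl (a * b)).mul_zpow, hjsq, one_zpow])
    · exact Or.inr (by rw [zpow_add, two_mul, zpow_add, ← (Commute.refl (a * b)).mul_zpow, hjsq, one_zpow, one_mul,
        zpow_one])
  let U : ℕ → Subgroup G := fun m => W ⊓ centralizer {x | ∃ t : Fin 3, (t : ℕ) < m ∧ g (r t) = x}
  have hU : ∀ m, ∀ e ∈ pairTwo D a b, (∀ t : Fin 3, (t : ℕ) < m → Commute e (g (r t))) →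
      ∀ x ∈ U m, e * x * e⁻¹ ∈ U m := by
    intro m e he hce x hx
    refine mem_inf.2 ⟨hn e he x hx.1, mem_centralizer_iff.2 ?_⟩
    rintro _ ⟨t, ht, rfl⟩
    have h1 : Commute (g (r t)) x := mem_centralizer_iff.1 hx.2 _ ⟨t, ht, rfl⟩
    exact (((hce t ht).symm.mul_right h1).mul_right (hce t ht).symm.inv_right).eq
  have step : ∀ t : Fin 3, Nat.card ↥(U (t + 1)) ^ 2 ≤ Nat.card ↥(U t) ∧ (U (t + 1) = ⊥ → U t = ⊥) := by
    intro t
    have hle : U (t + 1) = U t ⊓ centralizer {g (r t)} := by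
      refine le_antisymm (le_inf (inf_le_inf_left _ (centralizer_le fun x ⟨s, hs, e⟩ => ⟨s, by omega, e⟩))
        (inf_le_right.trans (centralizer_le (by rintro _ rfl; exact ⟨t, Nat.lt_succ_self _, rfl⟩)))) ?_
      rintro x ⟨⟨h1, h2⟩, h3⟩
      refine ⟨h1, mem_centralizer_iff.2 ?_⟩
      rintro _ ⟨s, hs, rfl⟩
      rcases Nat.lt_succ_iff_lt_or_eq.1 hs with hs | hs
      · exact mem_centralizer_iff.1 h2 _ ⟨s, hs, rfl⟩
      · rw [Fin.ext hs]; exact mem_centralizer_iff.1 h3 _ rfl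
    rw [hle]
    set e := g (r t)
    set f := g (j (r t))
    refine fixed_sq_le (f := f) (fun x hx y hy => hab x hx.1 y hy.1)
      (hodd.of_dvd_nat (Subgroup.card_dvd_of_le inf_le_left))
      (hU t e (hg' _) fun s hs => ?_) (hU t f (hg' _) fun s hs => ?_) (fun x hx => ?_) (fun x hx => ?_)
    · have hne : s ≠ t := fun e => by rw [e] at hs; exact lt_irrefl _ hs
      have h1 := hc (j (r s)) (r t) (fun e => (hr t s (Ne.symm hne)).2 e)
      rw [hjj] at h1
      exact h1
    · have hne : s ≠ t := fun e => by rw [e] at hs; exact lt_irrefl _ hs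
      exact (hc (r t) (r s) (hr s t hne).1).symm
    · have hee : e * e ∈ zpowers (a * b) := hsq e (hg' _)
      rw [show e * (e * x * e⁻¹) * e⁻¹ = (e * e) * x * (e * e)⁻¹ by group]
      rcases hz _ hee with h1 | h1
      · rw [h1]; group
      · exfalso
        obtain ⟨y, z, hy, hz', hyz⟩ := hg (r t)
        have hc' : Commute y z := hz'.2.2 y hy.1.1 hy.1.2.2.symm hy.2.2.2.symm (Commute.refl y)
        have h2 : e * e = 1 := by
          simp only [e, hyz]
          rw [hc'.symm.mul_mul_mul_comm, sq_eq_one h.cls.1 hy.1.1, sq_eq_one h.cls.1 hz'.1.1.1, one_mul]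
        rw [h2] at h1
        exact hb.2.1 (by rw [← inv_eq h.cls.1 ha]; exact (mul_eq_one_iff_inv_eq.1 h1.symm).symm)
    · rcases hz _ (hcm e (hg' _) f (hg' _)) with h1 | h1
      · exact absurd (mul_inv_eq_iff_eq_mul.1 (mul_inv_eq_one.1 h1)) (hnc (r t))
      · rw [h1]; exact hjinv x hx.1
  have hU0 : U 0 ≤ W := inf_le_left
  have hW0 : W ≤ U 0 := fun x hx => ⟨hx, mem_centralizer_iff.2 fun y ⟨t, ht, _⟩ => absurd ht (Nat.not_lt_zero _)⟩
  have hW : U 0 = W := le_antisymm hU0 hW0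
  obtain ⟨s0, b0⟩ := step 0
  obtain ⟨s1, b1⟩ := step 1
  obtain ⟨s2, b2⟩ := step 2
  simp only [Fin.val_zero, Fin.val_one, Fin.val_two, zero_add] at s0 b0 s1 b1 s2 b2
  by_contra hne
  have h3 : U 3 ≠ ⊥ := fun e => hne (hW ▸ b0 (b1 (b2 e)))
  have hodd3 : Odd (Nat.card ↥(U 3)) := hodd.of_dvd_nat (Subgroup.card_dvd_of_le inf_le_left)
  have hc3 : 3 ≤ Nat.card ↥(U 3) := by
    have := (Subgroup.one_lt_card_iff_ne_bot _).2 h3
    obtain ⟨k, hk⟩ := hodd3
    omega
  have hcard := card_inverted h ha hb hodd hWa hWb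
  rw [hW] at s0
  have e2 : 9 ≤ Nat.card ↥(U 2) := by nlinarith
  have e1 : 81 ≤ Nat.card ↥(U 1) := by nlinarith
  nlinarith

include hα hA

/-- Nothing of odd order is normalised. -/
theorem no_odd {W : Subgroup (MulAut G)} (hodd : Odd (Nat.card W))
    (hn : flipGroup D a b α ≤ normalizer (W : Set (MulAut G))) : W = ⊥ := by
  obtain ⟨F, _, _, H, π, vec, u, P⟩ := h.exists_pairModel ha hb
  obtain ⟨ψ, hψ⟩ := P.exists_isPsi
  obtain ⟨hEcard, -, -⟩ := P.pairTwo_facts hψ
  haveI : Finite (MulAut G) := Finite.of_injective _ DFunLike.coe_injective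
  have hinj := conj_injective h.center_eq
  set R := (MulAut.conj : G →* MulAut G).range
  -- the odd elements are inner
  have hin : W ≤ R := fun x hx => by
    obtain ⟨c, rfl | rfl⟩ := hα.inner_or h ha hb hA x
    · exact ⟨c, rfl⟩
    exfalso
    set x := α * MulAut.conj c
    have hx2 : x * x ∈ R := ⟨α c * c, by
      show _ = α * MulAut.conj c * (α * MulAut.conj c)
      rw [mul_assoc α, ← mul_assoc (MulAut.conj c), hα.conj_comm h ha hb, mul_assoc α, ← map_mul, ← mul_assoc, hα.sq,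
        one_mul]⟩
    obtain ⟨k, hk⟩ : Odd (orderOf x) := hodd.of_dvd_nat (Subgroup.orderOf_dvd_natCard W hx)
    have h1 : x = ((x * x) ^ k)⁻¹ := by
      rw [eq_inv_iff_mul_eq_one, ← pow_two, ← pow_mul, ← pow_succ', ← hk, pow_orderOf_eq_one]
    obtain ⟨g, hg⟩ := (h1 ▸ inv_mem (pow_mem hx2 k) : x ∈ R)
    refine hα.not_inner h ha hb (g * c⁻¹) ?_
    rw [map_mul, hg, map_inv, mul_inv_cancel_right]
  set V := W.comap (MulAut.conj : G →* MulAut G)
  have hmap : V.map MulAut.conj = W := map_comap_eq_self hin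
  have hVodd : Odd (Nat.card V) := by
    rw [← hmap, Subgroup.card_map_of_injective hinj] at hodd; exact hodd
  have hnW : ∀ q ∈ flipGroup D a b α, ∀ x ∈ W, q * x * q⁻¹ ∈ W := fun q hq x hx =>
    (mem_normalizer_iff.1 (hn hq) x).1 hx
  have hnE : ∀ e ∈ pairTwo D a b, ∀ v ∈ V, e * v * e⁻¹ ∈ V := fun e he v hv => by
    show MulAut.conj (e * v * e⁻¹) ∈ W
    rw [map_mul, map_mul, map_inv]
    exact hnW _ ((hα.mem_flipGroup h ha hb).2 ⟨e, he, Or.inl rfl⟩) _ hv
  have hnα : ∀ v ∈ V, α v ∈ V := fun v hv => by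
    show MulAut.conj (α v) ∈ W
    have h1 := hnW _ (le_sup_right (α := Subgroup (MulAut G)) (mem_zpowers α)) _ hv
    rwa [show α * MulAut.conj v * α⁻¹ = MulAut.conj (α v) by
      ext x; simp only [MulAut.mul_apply, MulAut.conj_apply, map_mul, map_inv, inv_eq_of_mul_eq_one_right hα.sq,
        hα.invol h ha hb]] at h1
  obtain ⟨haE, hbE, hjE⟩ := hα.ab_mem_two h ha hb
  have hjsq : (a * b) * (a * b) = 1 := by
    rw [hb.2.2.symm.mul_mul_mul_comm, sq_eq_one h.cls.1 ha, sq_eq_one h.cls.1 hb.1, one_mul]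
  -- the product has no fixed points
  have hfix : ∀ v ∈ V, a * b * v * (a * b)⁻¹ = v → v = 1 := by
    intro v hv hjv
    have hvC : v ∈ centralizer ({a * b} : Set G) :=
      mem_centralizer_singleton_iff.2 (mul_inv_eq_iff_eq_mul.1 hjv).symm
    have hvE : v ∈ centralizer (pairTwo D a b : Set G) := mem_centralizer_iff.2 fun e he => by
      have h1 : e * v * e⁻¹ * v⁻¹ ∈ pairTwo D a b := by
        rw [show e * v * e⁻¹ * v⁻¹ = e * (v * e⁻¹ * v⁻¹) by group]
        exact mul_mem he (P.two_normal hψ hvC (inv_mem he))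
      have h2 : e * v * e⁻¹ * v⁻¹ ∈ V := mul_mem (hnE e he v hv) (inv_mem hv)
      have h3 : e * v * e⁻¹ * v⁻¹ = 1 := by
        rw [← orderOf_eq_one_iff]
        have d1 := Subgroup.orderOf_dvd_natCard _ h1
        rw [hEcard] at d1
        obtain ⟨k, -, hk⟩ := (Nat.dvd_prime_pow Nat.prime_two).1 d1
        rcases Nat.eq_zero_or_pos k with rfl | hk0
        · simpa using hk
        · exfalso
          have d2 := Subgroup.orderOf_dvd_natCard _ h2
          rw [hk] at d2
          exact (Nat.not_even_iff_odd.2 hVodd) (even_iff_two_dvd.2 (dvd_trans (dvd_pow_self 2 (by omega)) d2))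
      exact mul_inv_eq_iff_eq_mul.1 (mul_inv_eq_one.1 h3)
    have h4 : v ∈ pairTwo D a b := P.centralizer_two_le hψ ⟨hvC, hvE⟩
    rw [← orderOf_eq_one_iff]
    exact Nat.eq_one_of_dvd_coprimes (Nat.Coprime.pow_left 10 (Nat.coprime_two_left.2 hVodd))
      (hEcard ▸ Subgroup.orderOf_dvd_natCard _ h4) (Subgroup.orderOf_dvd_natCard _ hv)
  -- so it inverts
  have hinv : ∀ v ∈ V, a * b * v * (a * b)⁻¹ = v⁻¹ := by
    let f : V → V := fun v => ⟨(v : G)⁻¹ * (a * b * v * (a * b)⁻¹), mul_mem (inv_mem v.2) (hnE _ hjE _ v.2)⟩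
    have hf : Function.Injective f := fun v w e => by
      have e0 : (v : G)⁻¹ * (a * b * v * (a * b)⁻¹) = (w : G)⁻¹ * (a * b * w * (a * b)⁻¹) := congrArg Subtype.val e
      refine Subtype.ext (mul_inv_eq_one.1 ?_).symm
      refine hfix _ (mul_mem w.2 (inv_mem v.2)) ?_
      calc a * b * (w * (v : G)⁻¹) * (a * b)⁻¹ =
            (w : G) * ((w : G)⁻¹ * (a * b * w * (a * b)⁻¹)) * ((v : G)⁻¹ * (a * b * v * (a * b)⁻¹))⁻¹ * (v : G)⁻¹ := by
              group
        _ = _ := by rw [← e0]; group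
    intro v hv
    obtain ⟨⟨u', hu⟩, e⟩ := Finite.injective_iff_surjective.1 hf ⟨v, hv⟩
    have e0 : u'⁻¹ * (a * b * u' * (a * b)⁻¹) = v := congrArg Subtype.val e
    subst e0
    calc a * b * (u'⁻¹ * (a * b * u' * (a * b)⁻¹)) * (a * b)⁻¹ =
          (a * b * u' * (a * b)⁻¹)⁻¹ * ((a * b * (a * b)) * u' * (a * b * (a * b))⁻¹) := by group
      _ = _ := by rw [hjsq]; group
  have habel : ∀ x ∈ V, ∀ y ∈ V, Commute x y := fun x hx y hy => by
    have h1 : x⁻¹ * y⁻¹ = (x * y)⁻¹ := by rw [← hinv x hx, ← hinv y hy, ← hinv _ (mul_mem hx hy)]; group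
    have h2 := congrArg Inv.inv h1
    rw [inv_inv, mul_inv_rev, inv_inv, inv_inv] at h2
    exact h2.symm
  have aa := sq_eq_one h.cls.1 ha
  -- the part fixed by `a`
  have hVa : V ⊓ centralizer {a} = ⊥ := by
    refine inverted_bot h ha hb (hVodd.of_dvd_nat (Subgroup.card_dvd_of_le inf_le_left))
      (fun x hx y hy => habel x hx.1 y hy.1) (fun w hw => (mem_centralizer_singleton_iff.1 hw.2).symm)
      (fun w hw => ?_) fun e he w hw => ⟨hnE e he w hw.1, ?_⟩
    · have hwa : Commute a w := (mem_centralizer_singleton_iff.1 hw.2).symm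
      have := hinv w hw.1
      rw [hb.2.2.eq, show b * a * w * (b * a)⁻¹ = b * (a * w * a⁻¹) * b⁻¹ by group, hwa.eq, mul_inv_cancel_right] at this
      exact this
    · have hea : Commute e a := (mem_centralizer_pair.1 (pairTwo_le hb.2.2 he)).1
      exact mem_centralizer_singleton_iff.2
        ((hea.mul_left (mem_centralizer_singleton_iff.1 hw.2 : Commute w a)).mul_left hea.inv_left).eq
  have hbot : V = ⊥ := eq_bot_iff.2 fun v hv => by
    -- `a` inverts `v`, so `b` fixes it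
    have h1 : v * (a * v * a⁻¹) ∈ V ⊓ centralizer {a} := by
      refine ⟨mul_mem hv (hnE _ haE _ hv), mem_centralizer_singleton_iff.2 ?_⟩
      refine (mul_inv_eq_iff_eq_mul.1 ?_).symm
      rw [show a * (v * (a * v * a⁻¹)) * a⁻¹ = a * v * a⁻¹ * ((a * a) * v * (a * a)⁻¹) by group, aa, one_mul,
        inv_one, mul_one]
      exact habel _ (hnE _ haE _ hv) _ hv
    rw [hVa, mem_bot] at h1
    have h2 : a * v * a⁻¹ = v⁻¹ := (mul_eq_one_iff_inv_eq.1 h1).symm
    have h3 : b * v * b⁻¹ = v := by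
      have := hinv v⁻¹ (inv_mem hv)
      rw [inv_inv, hb.2.2.eq, ← h2,
        show b * a * (a * v * a⁻¹) * (b * a)⁻¹ = b * ((a * a) * v * (a * a)⁻¹) * b⁻¹ by group, aa, one_mul, inv_one,
        mul_one] at this
      nth_rw 2 [← this]
    have h4 : α v ∈ V ⊓ centralizer {a} := by
      refine ⟨hnα v hv, mem_centralizer_singleton_iff.2 ?_⟩
      rw [← hα.flip' h ha hb, ← map_mul, ← map_mul, mul_inv_eq_iff_eq_mul.1 h3]
    rw [hVa, mem_bot] at h4
    exact mem_bot.2 (α.injective (h4.trans (map_one α).symm))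
  rw [← hmap, hbot, Subgroup.map_bot]

set_option maxHeartbeats 1600000 in
/-- The centraliser of the subgroup. -/
theorem centralizer_eq : centralizer (flipGroup D a b α : Set (MulAut G)) = zpowers (MulAut.conj (a * b)) := by
  obtain ⟨F, _, _, H, π, vec, u, P⟩ := h.exists_pairModel ha hb
  obtain ⟨ψ, hψ⟩ := P.exists_isPsi
  obtain ⟨-, hker, -⟩ := P.pairTwo_facts hψ
  haveI := P.model.six.fd
  have hF : Fintype.card F = 4 := by rw [← Nat.card_eq_fintype_card]; exact P.model.four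
  obtain ⟨hSU, -, hsimp, hZ⟩ := four_space_facts hF P.space_four P.space_dim
  obtain ⟨-, hcen⟩ := hα.extraspecial h ha hb
  have hinj := conj_injective h.center_eq
  obtain ⟨hjQ, hjc⟩ := hα.fix_conj_j h ha hb
  refine le_antisymm ?_ (zpowers_le.2 (mem_centralizer_iff.2 fun x hx => (hjc x hx).eq))
  intro x hx
  have hxc : ∀ q ∈ flipGroup D a b α, q * x = x * q := fun q hq => mem_centralizer_iff.1 hx q hq
  suffices hxQ : x ∈ flipGroup D a b α by
    rw [← hcen]
    exact ⟨⟨x, hxQ⟩, mem_center_iff.2 fun g => Subtype.ext (hxc g g.2), rfl⟩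
  have hxC : x ∈ centralizer ({MulAut.conj (a * b)} : Set (MulAut G)) :=
    mem_centralizer_singleton_iff.2 (hxc _ hjQ).symm
  obtain ⟨c, hc, rfl | rfl⟩ := hα.mem_centralizer h ha hb hA hxC
  · refine (hα.mem_flipGroup h ha hb).2 ⟨c, P.centralizer_two_le hψ ⟨hc, mem_centralizer_iff.2 fun e he => hinj ?_⟩,
      Or.inl rfl⟩
    rw [map_mul, map_mul]
    exact hxc _ ((hα.mem_flipGroup h ha hb).2 ⟨e, he, Or.inl rfl⟩)
  exfalso
  have hact : ∀ e ∈ pairTwo D a b, c * e * c⁻¹ = α e := fun e he => by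
    have h1 := hxc _ ((hα.mem_flipGroup h ha hb).2 ⟨e, he, Or.inl rfl⟩)
    rw [← mul_assoc, hα.conj_comm h ha hb, mul_assoc, mul_assoc, ← map_mul, ← map_mul] at h1
    rw [← hinj (mul_left_cancel h1), mul_inv_cancel_right]
  -- elements trivial on the subgroup modulo the product
  set C := centralizer ({a * b} : Set G) with hCdef
  have hEC : ∀ c ∈ C, ∀ e ∈ pairTwo D a b, c * e * c⁻¹ ∈ pairTwo D a b := fun c hc e he => P.two_normal hψ hc he
  have hjC : ∀ c ∈ C, ∀ w ∈ zpowers (a * b), c * w * c⁻¹ = w := fun c hc w hw => by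
    obtain ⟨n, rfl⟩ := mem_zpowers_iff.1 hw
    rw [((show Commute c (a * b) from mem_centralizer_singleton_iff.1 hc).zpow_right n).eq, mul_inv_cancel_right]
  let N : Subgroup G :=
    { carrier := {c | c ∈ C ∧ ∀ e ∈ pairTwo D a b, c * e * c⁻¹ * e⁻¹ ∈ zpowers (a * b)}
      one_mem' := ⟨one_mem _, fun e _ => by simp⟩
      mul_mem' := fun {p q} hp hq => ⟨mul_mem hp.1 hq.1, fun e he => by
        rw [show p * q * e * (p * q)⁻¹ * e⁻¹ = p * (q * e * q⁻¹ * e⁻¹) * p⁻¹ * (p * e * p⁻¹ * e⁻¹) by group,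
          hjC p hp.1 _ (hq.2 e he)]
        exact mul_mem (hq.2 e he) (hp.2 e he)⟩
      inv_mem' := fun {p} hp => ⟨inv_mem hp.1, fun e he => by
        have h1 := inv_mem (hp.2 _ (hEC _ (inv_mem hp.1) e he))
        rw [show (p * (p⁻¹ * e * p⁻¹⁻¹) * p⁻¹ * (p⁻¹ * e * p⁻¹⁻¹)⁻¹)⁻¹ = p⁻¹ * e * p⁻¹⁻¹ * e⁻¹ by group] at h1
        exact h1⟩ }
  have hNC : N ≤ C := fun _ hp => hp.1
  have hN : ∀ d ∈ C, ∀ p ∈ N, d * p * d⁻¹ ∈ N := fun d hd p hp => ⟨mul_mem (mul_mem hd hp.1) (inv_mem hd),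
    fun e he => by
      have h1 := hp.2 _ (hEC _ (inv_mem hd) e he)
      rw [show d * p * d⁻¹ * e * (d * p * d⁻¹)⁻¹ * e⁻¹ =
        d * (p * (d⁻¹ * e * d⁻¹⁻¹) * p⁻¹ * (d⁻¹ * e * d⁻¹⁻¹)⁻¹) * d⁻¹ by group, hjC d hd _ h1]
      exact h1⟩
  have hNK : N ⊓ centralizer ({a, b} : Set G) ≤ pairTwo D a b := by
    intro x hx
    set N₀ := (N.subgroupOf (centralizer ({a, b} : Set G))).map ψ
    haveI hN₀ : N₀.Normal := by
      refine Subgroup.Normal.map ⟨fun x hx g => ?_⟩ ψ hψ.1
      rw [mem_subgroupOf] at hx ⊢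
      exact hN _ (P.m22.pair_le_prod P.ha P.hb g.2) _ hx
    rcases hsimp.eq_bot_or_eq_top_of_normal N₀ hN₀ with e | e
    · rw [hker]
      exact ⟨⟨x, hx.2⟩, MonoidHom.mem_ker.2 (mem_bot.1 (e ▸ mem_map_of_mem ψ (mem_subgroupOf.2 hx.1))), rfl⟩
    · exfalso
      have hab' : ∀ p q : P.space.SIsom, p * q = q * p := by
        intro p q
        obtain ⟨p', hp', rfl⟩ : p ∈ N₀ := e ▸ mem_top p
        obtain ⟨q', hq', rfl⟩ : q ∈ N₀ := e ▸ mem_top q
        rw [← map_mul, ← map_mul]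
        have hmem : ((p' * q' * p'⁻¹ * q'⁻¹ : ↥(centralizer ({a, b} : Set G))) : G) ∈ pairTwo D a b := by
          simp only [Subgroup.coe_mul, Subgroup.coe_inv]
          have hp : (p' : G) ∈ N := hp'
          have hq : (q' : G) ∈ N := hq'
          refine P.centralizer_two_le hψ ⟨C.mul_mem (C.mul_mem (C.mul_mem (hNC hp) (hNC hq)) (C.inv_mem (hNC hp))) (C.inv_mem (hNC hq)),
            mem_centralizer_iff.2 fun e he => ?_⟩
          have hm : ∀ {r : G}, r ∈ N → ∃ w ∈ zpowers (a * b), r * e * r⁻¹ = w * e := fun {r} hr =>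
            ⟨_, hr.2 e he, by group⟩
          obtain ⟨wp, hwp, ep⟩ := hm hp
          obtain ⟨wq, hwq, eq'⟩ := hm hq
          obtain ⟨wpi, hwpi, epi⟩ := hm (inv_mem hp)
          obtain ⟨wqi, hwqi, eqi⟩ := hm (inv_mem hq)
          have c1 : ∀ {r w : G}, r ∈ N → w ∈ zpowers (a * b) → r * (w * e) * r⁻¹ = w * (r * e * r⁻¹) :=
            fun {r w} hr hw => by
              calc r * (w * e) * r⁻¹ = (r * w * r⁻¹) * (r * e * r⁻¹) := by group
                _ = _ := by rw [hjC r hr.1 w hw]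
          have hcw : ∀ {v w : G}, v ∈ zpowers (a * b) → w ∈ zpowers (a * b) → Commute v w := fun {v w} hv hw => by
            obtain ⟨m, rfl⟩ := mem_zpowers_iff.1 hv
            obtain ⟨n, rfl⟩ := mem_zpowers_iff.1 hw
            exact Commute.zpow_zpow (Commute.refl _) m n
          have hwp' : wp * wpi = 1 := by
            have : (p' : G) * ((p' : G)⁻¹ * e * (p' : G)⁻¹⁻¹) * (p' : G)⁻¹ = e := by group
            rw [epi, c1 hp hwpi, ep, ← mul_assoc, mul_eq_right] at this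
            rw [(hcw hwp hwpi).eq]; exact this
          have hwq' : wq * wqi = 1 := by
            have : (q' : G) * ((q' : G)⁻¹ * e * (q' : G)⁻¹⁻¹) * (q' : G)⁻¹ = e := by group
            rw [eqi, c1 hq hwqi, eq', ← mul_assoc, mul_eq_right] at this
            rw [(hcw hwq hwqi).eq]; exact this
          symm
          rw [← mul_inv_eq_iff_eq_mul]
          calc (p' : G) * q' * (p' : G)⁻¹ * (q' : G)⁻¹ * e * ((p' : G) * q' * (p' : G)⁻¹ * (q' : G)⁻¹)⁻¹
              = (p' : G) * ((q' : G) * ((p' : G)⁻¹ * ((q' : G)⁻¹ * e * (q' : G)⁻¹⁻¹) * (p' : G)⁻¹⁻¹) * (q' : G)⁻¹) *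
                  (p' : G)⁻¹ := by group
            _ = wqi * (wpi * (wq * (wp * e))) := by
              rw [eqi, c1 (inv_mem hp) hwqi, epi, ← mul_assoc wqi, c1 hq (mul_mem hwqi hwpi), eq',
                ← mul_assoc (wqi * wpi), c1 hp (mul_mem (mul_mem hwqi hwpi) hwq), ep]
              simp only [mul_assoc]
            _ = e := by
              rw [← mul_assoc wpi, (hcw hwpi hwq).eq, mul_assoc, ← mul_assoc wpi, (hcw hwpi hwp).eq, hwp', one_mul,
                ← mul_assoc, (hcw hwqi hwq).eq, hwq', one_mul]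
        have h1 : p' * q' * p'⁻¹ * q'⁻¹ ∈ ψ.ker := by
          obtain ⟨k, hk, hk'⟩ := hker.le hmem
          exact (Subtype.ext hk' : k = _) ▸ hk
        rw [MonoidHom.mem_ker, map_mul, map_mul, map_mul, map_inv, map_inv, mul_inv_eq_one, mul_inv_eq_iff_eq_mul,
          ← map_mul, ← map_mul] at h1
        exact h1
      haveI : Nontrivial P.space.SIsom := (Finite.one_lt_card_iff_nontrivial).1 (by rw [hSU]; norm_num)
      obtain ⟨p, hp⟩ := exists_ne (1 : P.space.SIsom)
      exact hp (mem_bot.1 (hZ ▸ mem_center_iff.2 fun q => hab' q p))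
  have hcE : c ∈ pairTwo D a b := P.le_two_of_inf hψ hN hNC hNK ⟨hc, fun e he => by
    rw [hact e he]; exact hα.two_move h ha hb he⟩
  have h5 := hact a (hα.ab_mem_two h ha hb).1
  rw [((mem_centralizer_pair.1 (pairTwo_le hb.2.2 hcE)).1).eq, mul_inv_cancel_right, hα.flip] at h5
  exact hb.2.1 h5.symm

theorem large : IsLargeExtraspecial (flipGroup D a b α) := by
  obtain ⟨hes, hcen⟩ := hα.extraspecial h ha hb
  refine ⟨hes, (hα.centralizer_eq h ha hb hA).trans hcen.symm, ?_, fun K hK hn => hα.no_odd h ha hb hA hK hn⟩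
  rw [hcen, zpowers_eq_closure, centralizer_closure]
  exact hα.normal h ha hb hA

set_option maxHeartbeats 800000 in
/-- The generalised Fitting subgroup. -/
theorem genFitting_eq :
    generalizedFittingSubgroup ↥(centralizer ({MulAut.conj (a * b)} : Set (MulAut G))) =
      (flipGroup D a b α).subgroupOf (centralizer ({MulAut.conj (a * b)} : Set (MulAut G))) := by
  obtain ⟨F, _, _, H, π, vec, u, P⟩ := h.exists_pairModel ha hb
  have hinj := conj_injective h.center_eq
  obtain ⟨hjQ, hjc⟩ := hα.fix_conj_j h ha hb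
  haveI : Finite (MulAut G) := Finite.of_injective _ DFunLike.coe_injective
  set C := centralizer ({MulAut.conj (a * b)} : Set (MulAut G))
  set Q := flipGroup D a b α
  have hQC : Q ≤ C := fun x hx => mem_centralizer_singleton_iff.2 (hjc x hx).eq
  set Q' := Q.subgroupOf C
  haveI hQn : Q'.Normal := normal_subgroupOf_iff_le_normalizer hQC |>.2 (hα.normal h ha hb hA)
  haveI : Fact (Nat.Prime 2) := ⟨Nat.prime_two⟩
  have hQp : IsPGroup 2 ↥Q' := IsPGroup.of_card (n := 11) (by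
    rw [Nat.card_congr (subgroupOfEquivOfLe hQC).toEquiv, hα.card_flipGroup h ha hb])
  have hQF : Q' ≤ fittingSubgroup ↥C := Components.le_fitting_of_subnormal hQn.isSubnormal hQp.isNilpotent
  refine le_antisymm ?_ (hQF.trans Components.fitting_le_genFitting)
  rw [generalizedFittingSubgroup]
  refine sup_le (fun x hx => ?_) fun x hx => ?_
  · have h2 := (commutator_eq_bot_iff_le_centralizer.mp Components.layer_commute_fitting) hx
    have h3 : (x : MulAut G) ∈ centralizer (Q : Set (MulAut G)) := mem_centralizer_iff.2 fun q hq =>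
      congrArg Subtype.val (mem_centralizer_iff.1 h2 ⟨q, hQC hq⟩ (hQF (mem_subgroupOf.2 hq)))
    rw [hα.centralizer_eq h ha hb hA] at h3
    exact mem_subgroupOf.2 (zpowers_le.2 hjQ h3)
  · set C₀ := centralizer ({a * b} : Set G)
    have hiC : ∀ c : C₀, MulAut.conj (c : G) ∈ C := fun c => mem_centralizer_singleton_iff.2 (by
      rw [← map_mul, ← map_mul, mem_centralizer_singleton_iff.1 c.2])
    let ι : ↥C₀ →* ↥C := (MulAut.conj.comp C₀.subtype).codRestrict C hiC
    have hιi : Function.Injective ι := fun p q e => Subtype.ext (hinj (congrArg Subtype.val e))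
    set M := (fittingSubgroup ↥C).comap ι
    have hMn : M.Normal := Subgroup.Normal.comap inferInstance ι
    have hMnil : Group.IsNilpotent ↥M := by
      have h1 : Group.IsNilpotent ↥(M.map ι) :=
        Components.isNilpotent_of_le Components.isNilpotent_fitting (map_comap_le _ _)
      haveI := h1
      exact Group.nilpotent_of_mulEquiv (M.equivMapOfInjective ι hιi).symm
    have hME : M ≤ (pairTwo D a b).subgroupOf C₀ := by
      rw [← P.genFitting]
      exact (Components.le_fitting_of_subnormal hMn.isSubnormal hMnil).trans Components.fitting_le_genFitting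
    have hαQ : α ∈ Q := le_sup_right (α := Subgroup (MulAut G)) (mem_zpowers α)
    obtain ⟨c, hc, hxc⟩ := hα.mem_centralizer h ha hb hA x.2
    have hmem : ι ⟨c, hc⟩ ∈ fittingSubgroup ↥C := by
      rcases hxc with e | e
      · rwa [show ι ⟨c, hc⟩ = x from Subtype.ext e.symm]
      · have h1 : (⟨α, hQC hαQ⟩ : ↥C) ∈ fittingSubgroup ↥C := hQF (mem_subgroupOf.2 hαQ)
        have := mul_mem h1 hx
        rwa [show (⟨α, hQC hαQ⟩ : ↥C) * x = ι ⟨c, hc⟩ from Subtype.ext (by
          show α * (x : MulAut G) = MulAut.conj c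
          rw [e, ← mul_assoc, hα.sq, one_mul])] at this
    have hcE : c ∈ pairTwo D a b := mem_subgroupOf.1 (hME (show (⟨c, hc⟩ : ↥C₀) ∈ M from hmem))
    exact mem_subgroupOf.2 ((hα.mem_flipGroup h ha hb).2 ⟨c, hcE, hxc⟩)

/-- The quotient of the centraliser. -/
theorem quotient : ∃ (_ : ((flipGroup D a b α).subgroupOf
      (centralizer ({MulAut.conj (a * b)} : Set (MulAut G)))).Normal) (F : Type) (_ : Field F) (_ : Fintype F),
    Fintype.card F = 4 ∧ Nonempty (↥(centralizer ({MulAut.conj (a * b)} : Set (MulAut G))) ⧸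
      (flipGroup D a b α).subgroupOf (centralizer ({MulAut.conj (a * b)} : Set (MulAut G))) ≃*
      MulAut (Cfsg.PSU 4 F 2)) := by
  obtain ⟨F, i1, i2, H, π, vec, u, P⟩ := h.exists_pairModel ha hb
  obtain ⟨hn, ⟨e⟩⟩ := P.quotient_aut
  have hinj := conj_injective h.center_eq
  obtain ⟨hjQ, hjc⟩ := hα.fix_conj_j h ha hb
  set C := centralizer ({MulAut.conj (a * b)} : Set (MulAut G))
  set Q := flipGroup D a b α
  have hQC : Q ≤ C := fun x hx => mem_centralizer_singleton_iff.2 (hjc x hx).eq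
  haveI hQn : (Q.subgroupOf C).Normal := normal_subgroupOf_iff_le_normalizer hQC |>.2 (hα.normal h ha hb hA)
  set C₀ := centralizer ({a * b} : Set G)
  have hiC : ∀ c : C₀, MulAut.conj (c : G) ∈ C := fun c => mem_centralizer_singleton_iff.2 (by
    rw [← map_mul, ← map_mul, mem_centralizer_singleton_iff.1 c.2])
  let f : ↥C₀ →* ↥C ⧸ Q.subgroupOf C := (QuotientGroup.mk' _).comp ((MulAut.conj.comp C₀.subtype).codRestrict C hiC)
  have hk : f.ker = (pairTwo D a b).subgroupOf C₀ := by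
    ext c
    rw [MonoidHom.mem_ker, mem_subgroupOf]
    show ((QuotientGroup.mk _ : ↥C ⧸ Q.subgroupOf C) = 1) ↔ _
    rw [QuotientGroup.eq_one_iff, mem_subgroupOf]
    constructor
    · intro hm
      obtain ⟨e', he', h1 | h1⟩ := (hα.mem_flipGroup h ha hb).1 hm
      · exact (hinj h1 : (c : G) = e') ▸ he'
      · refine absurd ?_ (hα.not_inner h ha hb ((c : G) * e'⁻¹))
        rw [map_mul, map_inv, eq_mul_inv_iff_mul_eq]
        exact h1.symm
    · exact fun hc => (hα.mem_flipGroup h ha hb).2 ⟨_, hc, Or.inl rfl⟩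
  have hs : Function.Surjective f := by
    intro q
    obtain ⟨x, rfl⟩ := QuotientGroup.mk_surjective q
    obtain ⟨c, hc, hxc⟩ := hα.mem_centralizer h ha hb hA x.2
    refine ⟨⟨c, hc⟩, QuotientGroup.eq.2 (mem_subgroupOf.2 ?_)⟩
    show (MulAut.conj c)⁻¹ * (x : MulAut G) ∈ Q
    rcases hxc with e' | e'
    · rw [e', inv_mul_cancel]; exact one_mem _
    · rw [e', ← map_inv, ← mul_assoc, hα.conj_comm h ha hb, mul_assoc, ← map_mul]
      refine (hα.mem_flipGroup h ha hb).2 ⟨_, ?_, Or.inr rfl⟩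
      have := inv_mem (hα.cent_move h ha hb hc)
      rw [mul_inv_rev, inv_inv] at this
      rw [map_inv, show (α c)⁻¹ * c = c⁻¹ * (c * (α c)⁻¹) * c by group]
      obtain ⟨ψ, hψ⟩ := P.exists_isPsi
      simpa using P.two_normal hψ (inv_mem hc) this
  exact ⟨hQn, F, i1, i2, by rw [← Nat.card_eq_fintype_card]; exact P.model.four,
    ⟨((QuotientGroup.quotientKerEquivOfSurjective f hs).symm.trans (QuotientGroup.quotientMulEquivOfEq hk)).trans e⟩⟩

/-- Everything asked for. -/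
theorem main : IsLargeExtraspecial (flipGroup D a b α) ∧ Nat.card ↥(flipGroup D a b α) = 2 ^ 11 ∧
    (generalizedFittingSubgroup ↥(centralizer ({MulAut.conj (a * b)} : Set (MulAut G)))).map
      (centralizer ({MulAut.conj (a * b)} : Set (MulAut G))).subtype = flipGroup D a b α ∧
    flipGroup D a b α ≤ centralizer ({MulAut.conj (a * b)} : Set (MulAut G)) := by
  have hQC : flipGroup D a b α ≤ centralizer ({MulAut.conj (a * b)} : Set (MulAut G)) := fun x hx =>
    mem_centralizer_singleton_iff.2 ((hα.fix_conj_j h ha hb).2 x hx).eq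
  refine ⟨hα.large h ha hb hA, hα.card_flipGroup h ha hb, ?_, hQC⟩
  rw [hα.genFitting_eq h ha hb hA, map_subgroupOf_eq_of_le hQC]

end PairFlip

end Cfsg.Lib.ThreeTr
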